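import Cfsg.Agent.Lib.Cert.Mod
import Cfsg.Agent.Lib.PermCert.PL

set_option autoImplicit false
set_option maxRecDepth 100000

namespace Cfsg.Agent.Ct.U62

open Cfsg.Agent.PC

open Cfsg.Agent.Fi Cfsg.Agent.Ct
namespace L1
def t0x : TN := (TN.leaf (nat_lit 335137))
def t1x : TN := (TN.leaf (nat_lit 0x104a22))
def tt : TN := (TN.node (TN.node (TN.node (TN.node t0x (TN.leaf (nat_lit 0))) (TN.node (TN.leaf (nat_lit 0)) (TN.leaf (nat_lit 0)))) (TN.node (TN.node (TN.leaf (nat_lit 0)) (TN.leaf (nat_lit 0))) (TN.node (TN.leaf (nat_lit 0)) (TN.leaf (nat_lit 0))))) (TN.node (TN.node (TN.node t1x (TN.leaf (nat_lit 0))) (TN.node (TN.leaf (nat_lit 0)) (TN.leaf (nat_lit 0)))) (TN.node (TN.node (TN.leaf (nat_lit 0)) (TN.leaf (nat_lit 0))) (TN.node (TN.leaf (nat_lit 0)) (TN.leaf (nat_lit 0))))))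
noncomputable def T (j c : ℕ) : ℕ := getL tt (nat_lit 7) (nat_lit 3) j c
noncomputable def E (j c : ℕ) : ℕ := getL tt (nat_lit 7) (nat_lit 127) j c
theorem T_eq (j c : ℕ) : T j c = E j c % 4 :=
  getL_mod (a := 2) (b := 7) _ _ (by norm_num) (by norm_num) (by norm_num) (by norm_num) j c
def rels : List (List ℕ) := [[nat_lit 0, nat_lit 0, nat_lit 0]]
def inv (i : ℕ) : ℕ := Nat.land (Nat.shiftRight (nat_lit 33) (Nat.mul (nat_lit 2) i)) (nat_lit 3)
def X_t : TN := (TN.leaf (nat_lit 0))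
noncomputable def X (i : ℕ) : ℕ := get9 X_t (nat_lit 1) (nat_lit 1) i
def Jp_t : TN := (TN.leaf (nat_lit 0))
noncomputable def Jp (i : ℕ) : ℕ := get9 Jp_t (nat_lit 1) (nat_lit 1) i
def J_t : TN := (TN.leaf (nat_lit 0))
noncomputable def J (k : ℕ) : ℕ := getV J_t Jp k
def Pa_t : TN := (TN.leaf (nat_lit 0x102080))
noncomputable def Pa (i : ℕ) : ℕ := get9 Pa_t (nat_lit 7) (nat_lit 127) i
def W_t : TL := (TL.leaf [nat_lit 2, nat_lit 0, nat_lit 1, nat_lit 1])
noncomputable def W (i : ℕ) : List ℕ := TL.get W_t i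
def WA_t : TL := (TL.leaf [nat_lit 0])
noncomputable def WA (i : ℕ) : List ℕ := TL.get WA_t i
noncomputable def row : ℕ → ℕ := hRow (nat_lit 2) (nat_lit 2) (nat_lit 0) (nat_lit 4) (nat_lit 4) (nat_lit 16) (nat_lit 64) (nat_lit 64) (nat_lit 0) E X Pa inv (wfun (nat_lit 1) W_t)
noncomputable def aux : ℕ → ℕ := hAux (nat_lit 3) (nat_lit 2) (nat_lit 4) (nat_lit 16) (nat_lit 64) (nat_lit 2) (nat_lit 2) (nat_lit 64) (nat_lit 0) E X J Pa inv WA_t.get
theorem r0 : Nat.beq (rng row (nat_lit 0) (nat_lit 3)) (nat_lit 0) = true := by decide +kernel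
theorem rows : ∀ i < 3, row i = 0 := by
  have h := zero_lt_zero row
  have h := zero_lt_add (a := (nat_lit 0)) (n := (nat_lit 3)) (b := (nat_lit 3)) h r0 rfl
  exact h
theorem auxs : ∀ i < 0, aux i = 0 := by
  have h := zero_lt_zero aux
  exact h
theorem closes.{u} : ClosesT.{u} inv rels 2 0 3 T :=
  hc_closes (N1 := (nat_lit 2)) rfl T_eq (by decide +kernel) rows auxs
theorem T_inv : ∀ c < 3, ∀ j < 2, T j c < 3 ∧ T (inv j) (T j c) = c := 
  hc_inv (inv := inv) (N1 := (nat_lit 2)) rfl T_eq rows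
end L1

namespace L2
def t0x : TN := (TN.leaf (nat_lit 0x20b0424b4d0448))
def t1x : TN := (TN.leaf (nat_lit 0x1cadc811250680))
def t2x : TN := (TN.leaf (nat_lit 0x964a42a109081))
def tt : TN := (TN.node (TN.node (TN.node (TN.node t0x (TN.leaf (nat_lit 0))) (TN.node (TN.leaf (nat_lit 0)) (TN.leaf (nat_lit 0)))) (TN.node (TN.node t2x (TN.leaf (nat_lit 0))) (TN.node (TN.leaf (nat_lit 0)) (TN.leaf (nat_lit 0))))) (TN.node (TN.node (TN.node t1x (TN.leaf (nat_lit 0))) (TN.node (TN.leaf (nat_lit 0)) (TN.leaf (nat_lit 0)))) (TN.node (TN.node (TN.leaf (nat_lit 0)) (TN.leaf (nat_lit 0))) (TN.node (TN.leaf (nat_lit 0)) (TN.leaf (nat_lit 0))))))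
noncomputable def T (j c : ℕ) : ℕ := getL tt (nat_lit 9) (nat_lit 7) j c
noncomputable def E (j c : ℕ) : ℕ := getL tt (nat_lit 9) (nat_lit 511) j c
theorem T_eq (j c : ℕ) : T j c = E j c % 8 :=
  getL_mod (a := 3) (b := 9) _ _ (by norm_num) (by norm_num) (by norm_num) (by norm_num) j c
def rels : List (List ℕ) := [[nat_lit 0, nat_lit 0, nat_lit 0], [nat_lit 2, nat_lit 0, nat_lit 2, nat_lit 0, nat_lit 2, nat_lit 1, nat_lit 2, nat_lit 1]]
def inv (i : ℕ) : ℕ := Nat.land (Nat.shiftRight (nat_lit 225) (Nat.mul (nat_lit 2) i)) (nat_lit 3)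
def X_t : TN := (TN.leaf (nat_lit 0))
noncomputable def X (i : ℕ) : ℕ := get9 X_t (nat_lit 1) (nat_lit 1) i
def Jp_t : TN := (TN.leaf (nat_lit 0))
noncomputable def Jp (i : ℕ) : ℕ := get9 Jp_t (nat_lit 1) (nat_lit 1) i
def J_t : TN := (TN.leaf (nat_lit 0))
noncomputable def J (k : ℕ) : ℕ := getV J_t Jp k
def Pa_t : TN := (TN.leaf (nat_lit 0x365a2884450400))
noncomputable def Pa (i : ℕ) : ℕ := get9 Pa_t (nat_lit 9) (nat_lit 511) i
def W_t : TL := (TL.node (TL.node (TL.leaf [nat_lit 2, nat_lit 0, nat_lit 1, nat_lit 1]) (TL.leaf [nat_lit 2051, nat_lit 1, nat_lit 2, nat_lit 0, nat_lit 2, nat_lit 1, nat_lit 2, nat_lit 1, nat_lit 2])) (TL.leaf [nat_lit 2055, nat_lit 1, nat_lit 2, nat_lit 1, nat_lit 2, nat_lit 1, nat_lit 2, nat_lit 0, nat_lit 2]))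
noncomputable def W (i : ℕ) : List ℕ := TL.get W_t i
def WA_t : TL := (TL.leaf [nat_lit 0])
noncomputable def WA (i : ℕ) : List ℕ := TL.get WA_t i
noncomputable def row : ℕ → ℕ := hRow (nat_lit 5) (nat_lit 3) (nat_lit 2) (nat_lit 8) (nat_lit 8) (nat_lit 64) (nat_lit 128) (nat_lit 128) (nat_lit 0) E X Pa inv (wfun (nat_lit 3) W_t)
noncomputable def aux : ℕ → ℕ := hAux (nat_lit 6) (nat_lit 3) (nat_lit 8) (nat_lit 64) (nat_lit 128) (nat_lit 2) (nat_lit 2) (nat_lit 128) (nat_lit 0) E X J Pa inv WA_t.get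
theorem r0 : Nat.beq (rng row (nat_lit 0) (nat_lit 6)) (nat_lit 0) = true := by decide +kernel
theorem rows : ∀ i < 6, row i = 0 := by
  have h := zero_lt_zero row
  have h := zero_lt_add (a := (nat_lit 0)) (n := (nat_lit 6)) (b := (nat_lit 6)) h r0 rfl
  exact h
theorem auxs : ∀ i < 0, aux i = 0 := by
  have h := zero_lt_zero aux
  exact h
theorem closes.{u} : ClosesT.{u} inv rels 3 2 6 T :=
  hc_closes (N1 := (nat_lit 5)) rfl T_eq (by decide +kernel) rows auxs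
theorem T_inv : ∀ c < 6, ∀ j < 3, T j c < 6 ∧ T (inv j) (T j c) = c := 
  hc_inv (inv := inv) (N1 := (nat_lit 5)) rfl T_eq rows
end L2

namespace L3
def t0x : TN := (TN.leaf (nat_lit 0xa07c43cb17a63d606d81a8061811605d81610b8c5510b4c53206442a31408142048426313080f1090c49401c80b40148081084c432008420))
def t1x : TN := (TN.leaf (nat_lit 0x92ff01da07081e55ed55a10c5db955dd556405042e404842d52e100f10a8815204d00b10988104020424329c80c32148094008421200c800))
def t2x : TN := (TN.leaf (nat_lit 0xe1ff5fe406043410cc43283e4c7d10c042f785481c206c81a60388172059471401d9ec5025005442d0e831b442331a842220188043184420))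
def t3x : TN := (TN.leaf (nat_lit 0x10f881f10de01a6059ddc605443020755db5665c12503d99410ac81844cc429109900820444242038ccc108c80d108880a201c8051080801))
def tt : TN := (TN.node (TN.node (TN.node (TN.node t0x (TN.leaf (nat_lit 0))) (TN.node (TN.leaf (nat_lit 0)) (TN.leaf (nat_lit 0)))) (TN.node (TN.node t2x (TN.leaf (nat_lit 0))) (TN.node (TN.leaf (nat_lit 0)) (TN.leaf (nat_lit 0))))) (TN.node (TN.node (TN.node t1x (TN.leaf (nat_lit 0))) (TN.node (TN.leaf (nat_lit 0)) (TN.leaf (nat_lit 0)))) (TN.node (TN.node t3x (TN.leaf (nat_lit 0))) (TN.node (TN.leaf (nat_lit 0)) (TN.leaf (nat_lit 0))))))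
noncomputable def T (j c : ℕ) : ℕ := getL tt (nat_lit 14) (nat_lit 31) j c
noncomputable def E (j c : ℕ) : ℕ := getL tt (nat_lit 14) (nat_lit 16383) j c
theorem T_eq (j c : ℕ) : T j c = E j c % 32 :=
  getL_mod (a := 5) (b := 14) _ _ (by norm_num) (by norm_num) (by norm_num) (by norm_num) j c
def rels : List (List ℕ) := [[nat_lit 0, nat_lit 0, nat_lit 0], [nat_lit 2, nat_lit 0, nat_lit 2, nat_lit 0, nat_lit 2, nat_lit 1, nat_lit 2, nat_lit 1], [nat_lit 2, nat_lit 3, nat_lit 2, nat_lit 3], [nat_lit 3, nat_lit 0, nat_lit 3, nat_lit 0, nat_lit 3, nat_lit 1, nat_lit 3, nat_lit 1], [nat_lit 3, nat_lit 0, nat_lit 2, nat_lit 0, nat_lit 3, nat_lit 0, nat_lit 2, nat_lit 0, nat_lit 3, nat_lit 0, nat_lit 2, nat_lit 0]]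
def inv (i : ℕ) : ℕ := Nat.land (Nat.shiftRight (nat_lit 18049) (Nat.mul (nat_lit 3) i)) (nat_lit 7)
def X_t : TN := (TN.leaf (nat_lit 0))
noncomputable def X (i : ℕ) : ℕ := get9 X_t (nat_lit 1) (nat_lit 1) i
def Jp_t : TN := (TN.leaf (nat_lit 0))
noncomputable def Jp (i : ℕ) : ℕ := get9 Jp_t (nat_lit 1) (nat_lit 1) i
def J_t : TN := (TN.leaf (nat_lit 0))
noncomputable def J (k : ℕ) : ℕ := getV J_t Jp k
def Pa_t : TN := (TN.leaf (nat_lit 0x9f1c701ee6f426993489a22d0368133c99c0ce15682b45566aa0550aa4d0c6860430a10d08084131998c8c466222081044406000))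
noncomputable def Pa (i : ℕ) : ℕ := get9 Pa_t (nat_lit 13) (nat_lit 8191) i
def W_t : TL := (TL.node (TL.node (TL.node (TL.node (TL.leaf [nat_lit 2, nat_lit 0, nat_lit 1, nat_lit 1]) (TL.leaf [nat_lit 2055, nat_lit 1, nat_lit 2, nat_lit 1, nat_lit 2, nat_lit 1, nat_lit 2, nat_lit 0, nat_lit 2])) (TL.node (TL.leaf [nat_lit 8200, nat_lit 3, nat_lit 1, nat_lit 2, nat_lit 1, nat_lit 3, nat_lit 1, nat_lit 2, nat_lit 1, nat_lit 3, nat_lit 1, nat_lit 2, nat_lit 1]) (TL.leaf [nat_lit 4099, nat_lit 3, nat_lit 2, nat_lit 3, nat_lit 2]))) (TL.node (TL.node (TL.leaf [nat_lit 6151, nat_lit 1, nat_lit 3, nat_lit 1, nat_lit 3, nat_lit 1, nat_lit 3, nat_lit 0, nat_lit 3]) (TL.leaf [nat_lit 6149, nat_lit 3, nat_lit 0, nat_lit 3, nat_lit 1, nat_lit 3, nat_lit 1, nat_lit 3, nat_lit 0])) (TL.node (TL.leaf [nat_lit 2053, nat_lit 2, nat_lit 0, nat_lit 2, nat_lit 1, nat_lit 2, nat_lit 1, nat_lit 2, nat_lit 0]) (TL.leaf [nat_lit 8197, nat_lit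 2, nat_lit 0, nat_lit 3, nat_lit 0, nat_lit 2, nat_lit 0, nat_lit 3, nat_lit 0, nat_lit 2, nat_lit 0, nat_lit 3, nat_lit 0])))) (TL.node (TL.node (TL.node (TL.leaf [nat_lit 4097, nat_lit 2, nat_lit 3, nat_lit 2, nat_lit 3]) (TL.leaf [nat_lit 2051, nat_lit 1, nat_lit 2, nat_lit 0, nat_lit 2, nat_lit 1, nat_lit 2, nat_lit 1, nat_lit 2])) (TL.node (TL.leaf [nat_lit 2057, nat_lit 2, nat_lit 1, nat_lit 2, nat_lit 1, nat_lit 2, nat_lit 0, nat_lit 2, nat_lit 0]) (TL.leaf [nat_lit 2061, nat_lit 2, nat_lit 1, nat_lit 2, nat_lit 0, nat_lit 2, nat_lit 0, nat_lit 2, nat_lit 1]))) (TL.node (TL.node (TL.leaf [nat_lit 6147, nat_lit 1, nat_lit 3, nat_lit 0, nat_lit 3, nat_lit 1, nat_lit 3, nat_lit 1, nat_lit 3]) (TL.leaf [nat_lit 1, nat_lit 1, nat_lit 0, nat_lit 0])) (TL.node (TL.leaf [nat_lit 6157, nat_lit 3, nat_lit 1, nat_lit 3, nat_lit 0, nat_lit 3, nat_lit 0, nat_lit 3, nat_lit 1]) (TL.leaf [nat_lit 2059, nat_lit 0, nat_lit 2, nat_lit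 1, nat_lit 2, nat_lit 0, nat_lit 2, nat_lit 0, nat_lit 2])))))
noncomputable def W (i : ℕ) : List ℕ := TL.get W_t i
def WA_t : TL := (TL.leaf [nat_lit 0])
noncomputable def WA (i : ℕ) : List ℕ := TL.get WA_t i
noncomputable def row : ℕ → ℕ := hRow (nat_lit 31) (nat_lit 4) (nat_lit 3) (nat_lit 32) (nat_lit 32) (nat_lit 1024) (nat_lit 512) (nat_lit 512) (nat_lit 0) E X Pa inv (wfun (nat_lit 16) W_t)
noncomputable def aux : ℕ → ℕ := hAux (nat_lit 32) (nat_lit 4) (nat_lit 32) (nat_lit 1024) (nat_lit 512) (nat_lit 2) (nat_lit 2) (nat_lit 512) (nat_lit 0) E X J Pa inv WA_t.get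
theorem r0 : Nat.beq (rng row (nat_lit 0) (nat_lit 32)) (nat_lit 0) = true := by decide +kernel
theorem rows : ∀ i < 32, row i = 0 := by
  have h := zero_lt_zero row
  have h := zero_lt_add (a := (nat_lit 0)) (n := (nat_lit 32)) (b := (nat_lit 32)) h r0 rfl
  exact h
theorem auxs : ∀ i < 0, aux i = 0 := by
  have h := zero_lt_zero aux
  exact h
theorem closes.{u} : ClosesT.{u} inv rels 4 3 32 T :=
  hc_closes (N1 := (nat_lit 31)) rfl T_eq (by decide +kernel) rows auxs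
theorem T_inv : ∀ c < 32, ∀ j < 4, T j c < 32 ∧ T (inv j) (T j c) = c := 
  hc_inv (inv := inv) (N1 := (nat_lit 31)) rfl T_eq rows
end L3

namespace L4
def t0x : TN := (TN.leaf (nat_lit 0x120218e042c8084381072020980408416e082d3001ce203ecc27f80501101e820adc0075600c0c01d9c02c04153700d1009e420a82c0700829ce89ed8032b405f08290309ae313e0807e400cef01254025a0064704e8104f8613128056580949959960212c26f762e4104dc612d080785009e201dce02aac271650c670149402326554480769897020970c24d100da201b152af0806a3008e800c8c0228412618488900e5802028029400742018420910c23d54aae6008c402e98038100b2600d8208e0c2354806220144e010041191846020130208c0c22d40056800a8f12084114184502010c20898c2251007e200f0e0109e0333803e10434610f08034082183086c40178802c2a82e10420610b08027100481041c6109114100820a3083c400e8801a082083082c800488015100224001840070800a082023080c400104100))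
def t1x : TN := (TN.leaf (nat_lit 0x116a18cd42c5a843350716a096d40c407ba00f8105a20d3ec8069780dd01dea203904158082acb45d9eabc3c0637aafcf016d802a29170600b82020020a58414a200d410520403fb51733a2cea01796ab69d064680a640184209f2d57762ad8b0124209ca804e100f240164209bb50755807696980c8aaa8050100e86414820990807148eae201bc80260412e4cccaa457dc3b30806b2a28e95544a822900430824ca55750014ad1410824620188801e0412240e9e754fd13a115138100b4540d8801a0411c40040791190a999002f082322013480160411838e56718a931a010027082282011080120411328e74200f4c3909913130c3e40074208688035200341043040180802d3002e400542084080281004a400442083940102001c10414400f0801b2001410410638488016100243181840078800b2000410404400188000))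
def t2x : TN := (TN.leaf (nat_lit 0x13161ac2c2c858498b0721609c2c0c9980ab2ff131f8803310065082c45017a4cbcc4c78718ee4015c802b41974200a84014d67389004f6b2de105320536b8c6c60096f25a88024100460828830df462be0414320084201eda4b0b00590827840de964ae9003a20072cbd6961b010037186ec315d4209a8c37318ae4104d155a89003218ae0104bdc2a68806e58ad6104b480150c56908250315a0209388067100c830d8c20929c3404147e700b9271e8805f2004230d7062ad8411e18ab010474402a880523066630d40208d1df301009c60cf8402521b2c3065630d24208a880471008a5005c402098a243003260060619d8410f2063e200e0401b1401029c36200c4a191945222064c56c584014900092001066448a0059031c10040324388003100052182242828618a0c5130820630c346286041021000e20010618084100))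
def t3x : TN := (TN.leaf (nat_lit 0x1060020bf8417e082f2105e020b7880861010a20211c03704164700ec40170404188082280b4d59ec20aa9405d480ce10549a0288414e10102d11f5403538d6c580a092db420a384145408e6d013020a18807c600b2d015d6026a404248082400e889ba0c47a08270435dd623184136626c4104d4403aa004408268201c989b8a9d6b0825e201c146b0b046640064800c4e01d84128100d21049c40341c454100ca811810b2fa0440500604008d299ea00253089231178208f0805b0823a20160402b08053388667112ceb252693f1009e40064e00d18b2c3885660084c010080481008c40050e69e1cb241887c10444a215156292883e200e4401b9000d33a3664cb462170410b2001264c58a0078c4260820e6784840111000621a2a42c38620e041041003057028620b84103100263104020810800c1001020014620084100))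
def t4x : TN := (TN.leaf (nat_lit 0x13621acc42cf27ea64f316209f937c8f80a9eff4021020b23406e680ea1056ea041c08786a4ee105558bbdac05d082a48019d6028a406880102c5df1a936b926c60094c3da8e02c218703aee41050d80260807d08282c015976b08413c580b2104e547ba04138100f4c3d69562f998690826ab3d88403b0413438088201cd47b8841314008c801157826acf650825ab61ac2094980373006c7613ceba71a153100cc104944031841243006010489551e880600824010478402f0805c2b09055d1c402b88054082361046840281523f3804e104604025aae2c0822c1045440249401d3245e1044c40210804008222200f820878803b0821c200e887940410c10066200c820858802e08210200ac4015041071004c40028401184105100422007c20820801c1003232048208188017100281040840080800d1001220018208008001))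
def tt : TN := (TN.node (TN.node (TN.node (TN.node t0x (TN.leaf (nat_lit 0))) (TN.node t4x (TN.leaf (nat_lit 0)))) (TN.node (TN.node t2x (TN.leaf (nat_lit 0))) (TN.node (TN.leaf (nat_lit 0)) (TN.leaf (nat_lit 0))))) (TN.node (TN.node (TN.node t1x (TN.leaf (nat_lit 0))) (TN.node (TN.leaf (nat_lit 0)) (TN.leaf (nat_lit 0)))) (TN.node (TN.node t3x (TN.leaf (nat_lit 0))) (TN.node (TN.leaf (nat_lit 0)) (TN.leaf (nat_lit 0))))))
noncomputable def T (j c : ℕ) : ℕ := getL tt (nat_lit 19) (nat_lit 255) j c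
noncomputable def E (j c : ℕ) : ℕ := getL tt (nat_lit 19) (nat_lit 524287) j c
theorem T_eq (j c : ℕ) : T j c = E j c % 256 :=
  getL_mod (a := 8) (b := 19) _ _ (by norm_num) (by norm_num) (by norm_num) (by norm_num) j c
def rels : List (List ℕ) := [[nat_lit 0, nat_lit 0, nat_lit 0], [nat_lit 2, nat_lit 0, nat_lit 2, nat_lit 0, nat_lit 2, nat_lit 1, nat_lit 2, nat_lit 1], [nat_lit 2, nat_lit 3, nat_lit 2, nat_lit 3], [nat_lit 3, nat_lit 0, nat_lit 3, nat_lit 0, nat_lit 3, nat_lit 1, nat_lit 3, nat_lit 1], [nat_lit 3, nat_lit 0, nat_lit 2, nat_lit 0, nat_lit 3, nat_lit 0, nat_lit 2, nat_lit 0, nat_lit 3, nat_lit 0, nat_lit 2, nat_lit 0], [nat_lit 2, nat_lit 4, nat_lit 2, nat_lit 4], [nat_lit 3, nat_lit 4, nat_lit 3, nat_lit 4], [nat_lit 4, nat_lit 0, nat_lit 4, nat_lit 0, nat_lit 4, nat_lit 1, nat_lit 4, nat_lit 1], [nat_lit 4, nat_lit 0, nat_lit 2, nat_lit 0, nat_lit 3, nat_lit 1, nat_lit 2, nat_lit 1, nat_lit 4, nat_lit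 0, nat_lit 2, nat_lit 0, nat_lit 2, nat_lit 3, nat_lit 1, nat_lit 2, nat_lit 1], [nat_lit 4, nat_lit 0, nat_lit 2, nat_lit 0, nat_lit 4, nat_lit 0, nat_lit 2, nat_lit 0, nat_lit 4, nat_lit 0, nat_lit 2, nat_lit 0], [nat_lit 4, nat_lit 0, nat_lit 3, nat_lit 0, nat_lit 2, nat_lit 1, nat_lit 3, nat_lit 1, nat_lit 4, nat_lit 1, nat_lit 3, nat_lit 1, nat_lit 2, nat_lit 0, nat_lit 3, nat_lit 0], [nat_lit 4, nat_lit 0, nat_lit 3, nat_lit 4, nat_lit 0, nat_lit 4, nat_lit 3, nat_lit 1, nat_lit 4, nat_lit 3, nat_lit 1, nat_lit 3]]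
def inv (i : ℕ) : ℕ := Nat.land (Nat.shiftRight (nat_lit 181889) (Nat.mul (nat_lit 3) i)) (nat_lit 7)
def X_t : TN := (TN.leaf (nat_lit 0))
noncomputable def X (i : ℕ) : ℕ := get9 X_t (nat_lit 1) (nat_lit 1) i
def Jp_t : TN := (TN.leaf (nat_lit 0))
noncomputable def Jp (i : ℕ) : ℕ := get9 Jp_t (nat_lit 1) (nat_lit 1) i
def J_t : TN := (TN.leaf (nat_lit 0))
noncomputable def J (k : ℕ) : ℕ := getV J_t Jp k
def Pa_t : TN := (TN.leaf (nat_lit 0xa80397f397e39793978396f396e08690868186448643862285b485b08581856185548553853085248523850084e384e084c284b184a174807481747374537442743474337432741473e073e173c473c273947391738473837370737173637354735373527344734373427321731472f372f272e072e172d472d262946283628262736272626062616254625262446231622462206221620461e461e361e261d361d261c061c161b461a461a261906191618461806181516451545152514051415134513051315114511350f450f250e450d050d150c450c050c150b450b3408440804081407440734070407140544050405140444043404040413034303330323024302330222010201110040000))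
noncomputable def Pa (i : ℕ) : ℕ := get9 Pa_t (nat_lit 16) (nat_lit 65535) i
def W_t : TL := (TL.node (TL.node (TL.node (TL.node (TL.node (TL.node (TL.leaf [nat_lit 2, nat_lit 0, nat_lit 1, nat_lit 1]) (TL.leaf [nat_lit 2059, nat_lit 0, nat_lit 2, nat_lit 1, nat_lit 2, nat_lit 0, nat_lit 2, nat_lit 0, nat_lit 2])) (TL.node (TL.leaf [nat_lit 14341, nat_lit 4, nat_lit 0, nat_lit 4, nat_lit 1, nat_lit 4, nat_lit 1, nat_lit 4, nat_lit 0]) (TL.leaf [nat_lit 16385, nat_lit 4, nat_lit 0, nat_lit 2, nat_lit 0, nat_lit 3, nat_lit 1, nat_lit 2, nat_lit 1, nat_lit 4, nat_lit 0, nat_lit 2, nat_lit 0, nat_lit 2, nat_lit 3, nat_lit 1, nat_lit 2, nat_lit 1]))) (TL.node (TL.node (TL.leaf [nat_lit 2057, nat_lit 2, nat_lit 1, nat_lit 2, nat_lit 1, nat_lit 2, nat_lit 0, nat_lit 2, nat_lit 0]) (TL.leaf [nat_lit 22536, nat_lit 4, nat_lit 0, nat_lit 3, nat_lit 4, nat_lit 1, nat_lit 4, nat_lit 3, nat_lit 1, nat_lit 4, nat_lit 3, nat_lit 0,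 nat_lit 3])) (TL.leaf [nat_lit 6147, nat_lit 1, nat_lit 3, nat_lit 0, nat_lit 3, nat_lit 1, nat_lit 3, nat_lit 1, nat_lit 3]))) (TL.node (TL.node (TL.node (TL.leaf [nat_lit 14343, nat_lit 1, nat_lit 4, nat_lit 1, nat_lit 4, nat_lit 1, nat_lit 4, nat_lit 0, nat_lit 4]) (TL.leaf [nat_lit 6151, nat_lit 1, nat_lit 3, nat_lit 1, nat_lit 3, nat_lit 1, nat_lit 3, nat_lit 0, nat_lit 3])) (TL.leaf [nat_lit 4099, nat_lit 3, nat_lit 2, nat_lit 3, nat_lit 2])) (TL.node (TL.node (TL.leaf [nat_lit 2049, nat_lit 2, nat_lit 0, nat_lit 2, nat_lit 0, nat_lit 2, nat_lit 1, nat_lit 2, nat_lit 1]) (TL.leaf [nat_lit 22539, nat_lit 4, nat_lit 3, nat_lit 1, nat_lit 4, nat_lit 3, nat_lit 1, nat_lit 3, nat_lit 4, nat_lit 0, nat_lit 3, nat_lit 4, nat_lit 0])) (TL.leaf [nat_lit 8193, nat_lit 3, nat_lit 0, nat_lit 2, nat_lit 0, nat_lit 3, nat_lit 0, nat_lit 2, nat_lit 0, nat_lit 3, nat_lit 0, nat_lit 2, nat_lit 0])))) (TL.node (TL.node (TL.node (TL.node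 (TL.leaf [nat_lit 12289, nat_lit 3, nat_lit 4, nat_lit 3, nat_lit 4]) (TL.leaf [nat_lit 20511, nat_lit 1, nat_lit 4, nat_lit 0, nat_lit 3, nat_lit 0, nat_lit 2, nat_lit 1, nat_lit 3, nat_lit 1, nat_lit 4, nat_lit 1, nat_lit 3, nat_lit 1, nat_lit 2, nat_lit 0, nat_lit 3])) (TL.leaf [nat_lit 22543, nat_lit 0, nat_lit 4, nat_lit 3, nat_lit 1, nat_lit 3, nat_lit 4, nat_lit 0, nat_lit 3, nat_lit 4, nat_lit 0, nat_lit 4, nat_lit 3])) (TL.node (TL.node (TL.leaf [nat_lit 2053, nat_lit 2, nat_lit 0, nat_lit 2, nat_lit 1, nat_lit 2, nat_lit 1, nat_lit 2, nat_lit 0]) (TL.leaf [nat_lit 22542, nat_lit 4, nat_lit 1, nat_lit 4, nat_lit 3, nat_lit 1, nat_lit 4, nat_lit 3, nat_lit 0, nat_lit 3, nat_lit 4, nat_lit 0, nat_lit 3])) (TL.leaf [nat_lit 16411, nat_lit 3, nat_lit 1, nat_lit 2, nat_lit 1, nat_lit 4, nat_lit 0, nat_lit 2, nat_lit 0, nat_lit 3, nat_lit 1, nat_lit 2, nat_lit 1, nat_lit 4, nat_lit 0, nat_lit 2, nat_lit 0, nat_lit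 2]))) (TL.node (TL.node (TL.node (TL.leaf [nat_lit 18440, nat_lit 4, nat_lit 1, nat_lit 2, nat_lit 1, nat_lit 4, nat_lit 1, nat_lit 2, nat_lit 1, nat_lit 4, nat_lit 1, nat_lit 2, nat_lit 1]) (TL.leaf [nat_lit 14351, nat_lit 0, nat_lit 4, nat_lit 0, nat_lit 4, nat_lit 0, nat_lit 4, nat_lit 1, nat_lit 4])) (TL.leaf [nat_lit 12291, nat_lit 4, nat_lit 3, nat_lit 4, nat_lit 3])) (TL.node (TL.node (TL.leaf [nat_lit 2055, nat_lit 1, nat_lit 2, nat_lit 1, nat_lit 2, nat_lit 1, nat_lit 2, nat_lit 0, nat_lit 2]) (TL.leaf [nat_lit 14337, nat_lit 4, nat_lit 0, nat_lit 4, nat_lit 0, nat_lit 4, nat_lit 1, nat_lit 4, nat_lit 1])) (TL.leaf [nat_lit 18434, nat_lit 0, nat_lit 2, nat_lit 1, nat_lit 4, nat_lit 1, nat_lit 2, nat_lit 1, nat_lit 4, nat_lit 1, nat_lit 2, nat_lit 1, nat_lit 4]))))) (TL.node (TL.node (TL.node (TL.node (TL.node (TL.leaf [nat_lit 10241, nat_lit 2, nat_lit 4, nat_lit 2, nat_lit 4]) (TL.leaf [nat_lit 18435, nat_lit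 1, nat_lit 2, nat_lit 0, nat_lit 4, nat_lit 0, nat_lit 2, nat_lit 0, nat_lit 4, nat_lit 0, nat_lit 2, nat_lit 0, nat_lit 4])) (TL.leaf [nat_lit 6157, nat_lit 3, nat_lit 1, nat_lit 3, nat_lit 0, nat_lit 3, nat_lit 0, nat_lit 3, nat_lit 1])) (TL.node (TL.node (TL.leaf [nat_lit 6153, nat_lit 3, nat_lit 1, nat_lit 3, nat_lit 1, nat_lit 3, nat_lit 0, nat_lit 3, nat_lit 0]) (TL.leaf [nat_lit 18436, nat_lit 2, nat_lit 1, nat_lit 4, nat_lit 1, nat_lit 2, nat_lit 1, nat_lit 4, nat_lit 1, nat_lit 2, nat_lit 1, nat_lit 4, nat_lit 1])) (TL.leaf [nat_lit 8197, nat_lit 2, nat_lit 0, nat_lit 3, nat_lit 0, nat_lit 2, nat_lit 0, nat_lit 3, nat_lit 0, nat_lit 2, nat_lit 0, nat_lit 3, nat_lit 0]))) (TL.node (TL.node (TL.node (TL.leaf [nat_lit 14339, nat_lit 1, nat_lit 4, nat_lit 0, nat_lit 4, nat_lit 1, nat_lit 4, nat_lit 1, nat_lit 4]) (TL.leaf [nat_lit 20483, nat_lit 1, nat_lit 3, nat_lit 0, nat_lit 2, nat_lit 1, nat_lit 3, nat_lit 1,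 nat_lit 4, nat_lit 1, nat_lit 3, nat_lit 1, nat_lit 2, nat_lit 0, nat_lit 3, nat_lit 0, nat_lit 4])) (TL.leaf [nat_lit 10243, nat_lit 4, nat_lit 2, nat_lit 4, nat_lit 2])) (TL.node (TL.node (TL.leaf [nat_lit 14349, nat_lit 4, nat_lit 1, nat_lit 4, nat_lit 0, nat_lit 4, nat_lit 0, nat_lit 4, nat_lit 1]) (TL.leaf [nat_lit 16415, nat_lit 2, nat_lit 1, nat_lit 4, nat_lit 0, nat_lit 2, nat_lit 0, nat_lit 3, nat_lit 1, nat_lit 2, nat_lit 1, nat_lit 4, nat_lit 0, nat_lit 2, nat_lit 0, nat_lit 2, nat_lit 3, nat_lit 1])) (TL.leaf [nat_lit 18437, nat_lit 2, nat_lit 0, nat_lit 4, nat_lit 0, nat_lit 2, nat_lit 0, nat_lit 4, nat_lit 0, nat_lit 2, nat_lit 0, nat_lit 4, nat_lit 0])))) (TL.node (TL.node (TL.node (TL.node (TL.leaf [nat_lit 4097, nat_lit 2, nat_lit 3, nat_lit 2, nat_lit 3]) (TL.leaf [nat_lit 14347, nat_lit 0, nat_lit 4, nat_lit 1, nat_lit 4, nat_lit 0, nat_lit 4, nat_lit 0, nat_lit 4])) (TL.leaf [nat_lit 1, nat_lit 1,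 nat_lit 0, nat_lit 0])) (TL.node (TL.node (TL.leaf [nat_lit 6149, nat_lit 3, nat_lit 0, nat_lit 3, nat_lit 1, nat_lit 3, nat_lit 1, nat_lit 3, nat_lit 0]) (TL.leaf [nat_lit 14345, nat_lit 4, nat_lit 1, nat_lit 4, nat_lit 1, nat_lit 4, nat_lit 0, nat_lit 4, nat_lit 0])) (TL.leaf [nat_lit 6145, nat_lit 3, nat_lit 0, nat_lit 3, nat_lit 0, nat_lit 3, nat_lit 1, nat_lit 3, nat_lit 1]))) (TL.node (TL.node (TL.node (TL.leaf [nat_lit 20489, nat_lit 2, nat_lit 1, nat_lit 3, nat_lit 1, nat_lit 4, nat_lit 1, nat_lit 3, nat_lit 1, nat_lit 2, nat_lit 0, nat_lit 3, nat_lit 0, nat_lit 4, nat_lit 0, nat_lit 3, nat_lit 0]) (TL.leaf [nat_lit 22533, nat_lit 3, nat_lit 4, nat_lit 0, nat_lit 4, nat_lit 3, nat_lit 1, nat_lit 4, nat_lit 3, nat_lit 1, nat_lit 3, nat_lit 4, nat_lit 0])) (TL.leaf [nat_lit 2061, nat_lit 2, nat_lit 1, nat_lit 2, nat_lit 0, nat_lit 2, nat_lit 0, nat_lit 2, nat_lit 1])) (TL.node (TL.node (TL.leaf [nat_lit 2051, nat_lit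 1, nat_lit 2, nat_lit 0, nat_lit 2, nat_lit 1, nat_lit 2, nat_lit 1, nat_lit 2]) (TL.leaf [nat_lit 2063, nat_lit 0, nat_lit 2, nat_lit 0, nat_lit 2, nat_lit 0, nat_lit 2, nat_lit 1, nat_lit 2])) (TL.leaf [nat_lit 22535, nat_lit 4, nat_lit 0, nat_lit 4, nat_lit 3, nat_lit 1, nat_lit 4, nat_lit 3, nat_lit 1, nat_lit 3, nat_lit 4, nat_lit 0, nat_lit 3]))))))
noncomputable def W (i : ℕ) : List ℕ := TL.get W_t i
def WA_t : TL := (TL.leaf [nat_lit 0])
noncomputable def WA (i : ℕ) : List ℕ := TL.get WA_t i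
noncomputable def row : ℕ → ℕ := hRow (nat_lit 134) (nat_lit 5) (nat_lit 4) (nat_lit 256) (nat_lit 64) (nat_lit 16384) (nat_lit 4096) (nat_lit 4096) (nat_lit 0) E X Pa inv (wfun (nat_lit 49) W_t)
noncomputable def aux : ℕ → ℕ := hAux (nat_lit 135) (nat_lit 5) (nat_lit 256) (nat_lit 16384) (nat_lit 4096) (nat_lit 2) (nat_lit 2) (nat_lit 4096) (nat_lit 0) E X J Pa inv WA_t.get
theorem r0 : Nat.beq (rng row (nat_lit 0) (nat_lit 135)) (nat_lit 0) = true := by decide +kernel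
theorem rows : ∀ i < 135, row i = 0 := by
  have h := zero_lt_zero row
  have h := zero_lt_add (a := (nat_lit 0)) (n := (nat_lit 135)) (b := (nat_lit 135)) h r0 rfl
  exact h
theorem auxs : ∀ i < 0, aux i = 0 := by
  have h := zero_lt_zero aux
  exact h
theorem closes.{u} : ClosesT.{u} inv rels 5 4 135 T :=
  hc_closes (N1 := (nat_lit 134)) rfl T_eq (by decide +kernel) rows auxs
theorem T_inv : ∀ c < 135, ∀ j < 5, T j c < 135 ∧ T (inv j) (T j c) = c := 
  hc_inv (inv := inv) (N1 := (nat_lit 134)) rfl T_eq rows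
end L4

namespace L5
def t0x : TN := (TN.leaf (nat_lit 0x54057ca02b8b015a580ac040c3a802a880152400a874053b202998014ac0089600519601c890142081645404f8205843053c9809c4c0302801d5400c6081590c14c3c02295012a08156601503401cc102a6f82ab6c0473201441029c1828d040a62c01b1600d43008876d480205243050c081480c1421a020850102c807d3403f8a01f9600dc081425414a0204f9504f80813d0c13c340a49200ba7185f4e5bb12019ce00e2780700409bb15e0090070ed79618035840290600d240068080510204cc304ccb4b9349dad260a442013a8805e4001e04026c201340812b0c12e0402642012e081280c12c272decc00aa9828b467311601482011e081240c128040230d04de8c9543413d0204802010a100832c01398011810238182451c1252695e410236182412001f96e92c200ee100742001d9a00bc70072380362dda68401b41022a18235080329000781022418231280149000b8102201822d0802d8c00a874a74100572590e8204303044c1004f2179182042c30444298431800f8c00502008e100440802002042030434380180408386085c2006810032180098400c06000c1002c140078204104001a10025080108a083840012100190800b0800142002218c0a0408086080c2000408100))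
def t1x : TN := (TN.leaf (nat_lit 0x50457c856b8a115a507ac800482656a871152387a870453b072997254a0816a5c9d182059c83942c80935044f880274102c29079c040af020574102b420097040acbc01b142b2ab007b5c0323601d9400c4f0087040a8b43a3c401180814e5002a3a225971d4829388080558802141029220083040a418560842b02c806e30dbf8851f981100b00795002b1c012d40084200770409ea801cd31d340813c64ac9143a88d82e27137038026aa71f41026ca9c8a149b5aa5624524d2392682143908019410266100a04c74ca4014c2013c90e9b3c03a20a18112aea2005b04095a6018c201302005704094040250b38aa9004c08048944d498291c2004f04092040234c006e1008b3001f10010c2010c100840408e965118400880811c180100401f0400800811b1ca9f8401e8200f078e5f1ce1d9000a46267240e6d080378ca0e0400680811508033020450400600811230a9d0e54b840058081100802e0a70a89365e1005828723880094102181005024011880084102161004a14d8f8e38c8a004e10045080208800641021031c181000b02041c2006a2941e14a898400c41020a1002d10c878c00283101a100260801108001030e121001a0800b8a38443140c1000e100010204042000610000))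
def t2x : TN := (TN.leaf (nat_lit 0x8c1d7c416b99075ac009685ad5a216a8c0100583a8440490a01d8400d8d007e1c03eaada8910d430b5a0480352ed679600eac008989b4daa6a6948d330809385acbae0eb150b2a880658034c200e9de6b222005372cc7a6018986b1ab8058556458c0155707380814a18028a2020d0350a82c8441ac31a1608b0b02583a934039b21a9060d46bb57c4033d9ed5e9000be5804428d3b881a9956d3a603743033f8800f0400762003a3dab78c011892eda186a50409aa20e7c10268300431802120b19906b283805e1c02ea41638a00b4500593c33c8c199060ac65003024016920d84906c0b368c5292b9c010450d145004e0c1c802049450d0e7a95038024120d509007c2802814013840220500486834f31aa38a19b8a588a53578143340a159cd06ac7c6402429f900d3470070183720c3388615c01022e3033d1400e8a0070200d6100691400d92d8c8600584ac5c240151200a4852b629731181959018bc80a5c2064c102a592008c200a4203492031310006486a422000d1000608002c40c6e205361019990d46875c44300160801c8a18604001220008100038a0c488001c28310143078e6844306401861f0c28f02040c3062a186140c28982040840c0a20504080050400183060208100))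
def t3x : TN := (TN.leaf (nat_lit 0x644d782065e30156c80a6884d682061630130909a8840483026b0e010e8007810034311e89709429809b4c034b33279800e4800864a6502b1e6968f33134a9080573e01d8102aea805a7004002054dd011f009a7723c882053980116c00735eac68801315010658059342529e267020154980505024482051c1028ad84934c02c02051040086bcc7c4823da401bd300b67c7a444036bd1e5810278842745da462f1e74c00a40813944ebd0800dd03aee68051340248204d12693e184a304099ad5198d00c28003e04098a20150c70ca3804a040969e013410258800414823ca93250a69109207f0804a9c00c04005080462080491611c4c08d894c843c01e840238e08bc1848a040900c8180c68d63803808041080074201021007e0c23e82046cf68b88c2400408d1e1190e689e100752c01282045c200e0316480c237020454c00481006a080338e0084200c6689562c011020444200be1005d144958e00641021c184550408692007ca08765b835100061410bc63a641004b202130204283088c08109080210400fc64254200080801d0a00502006c20416040830858482005c18910100028400a42004e184230408184007820038184180408104004c3081e081010800584001c2000808100))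
def t4x : TN := (TN.leaf (nat_lit 0xa404f2e8aba4455ad009d866d5ac8aa9d014ee00a2719d48205c8102d6c808c040b3b69ea0102ccd4da064032d09ebd94558a8088508cdae026562335000905a54bbe01d58a6aeb806a040a9b6020159522fcd98708c7a4017160116c11a4566c682052c10294a229c040a4a801655a30aa4d844c0302b4d1d3a68ad4d92040a229416010284b8074040a02a01bc1027a600734a7b68204f1e232cb117c2dfbc0402981027258052511bd0204d9300ee0813508052ad3650c00c208133080518402858673e081313c01f0204c0b66d2911833801c0204b0e009a8a28e440278e00d13670ca807e6404aa001501024e7b3560804994cdc01024894a504242d9c0104d80ba08120080450402242010e6002d58041020471401021007f0408d8401f4d869c1007b200109ccd8c200f2100760408b940094200e26a25f0408a8401b8200d831f5a080340a0068200c81006204088940088b3e901005e21395820438800320810d0802a90007892274100510408592ccb87447e1004c040850e8c981021210046080218844c874452081070801d88004c2006e081060c68b0e7c482005e32710040820400a820050081030801184007c2003a081020800c040050102021000f080060400202000a08100))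
def t5x : TN := (TN.leaf (nat_lit 0x40cdce02641031a0818c8404aaa7aa8102f008177040bb200248f214aca6a450851b4020528b42c009a040b1a0025cf493a0815e08057aeaa8263d5c7aa983d5cf02056203d5678083748499ee69960116081527002b9642382015a100ac555c89e0145600c858f883402a9a0194c490a72a84395ca1c7a0996f44081443803896ddf9754fabd6455523d9eade911ef2100a90805404029cf20ea5806d0409d8204e4d1efe78f703d5b7a00108a4ce862d6c3002e200174b1ed25805b2402318a998c570cab7890804fa441881025e0812e39eaf840270f88d458f6b287b40204a810252100966ec4782049cc730e0812604092840240e1f1472b503401b82048c1024460f4c3402094ad281023c0811d35f2390419d800f810080240169e41b8c4c965a44031e1f8204641023008117080399d14e8200e408116313278c40d8b0060524340408a16dcc8a546252b350803084018084c864242c04087840168200b25ad280802b040150200a60810b08027040134960420810a2c78f840124200902101c0408414c4682007c1003d0801e0400e01020c100331478982041491e2208104080158e78381020652d0c08012040080102041001b0c5838400542002410010080068400241020010001))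
def tt : TN := (TN.node (TN.node (TN.node (TN.node t0x (TN.leaf (nat_lit 0))) (TN.node t4x (TN.leaf (nat_lit 0)))) (TN.node (TN.node t2x (TN.leaf (nat_lit 0))) (TN.node (TN.leaf (nat_lit 0)) (TN.leaf (nat_lit 0))))) (TN.node (TN.node (TN.node t1x (TN.leaf (nat_lit 0))) (TN.node t5x (TN.leaf (nat_lit 0)))) (TN.node (TN.node t3x (TN.leaf (nat_lit 0))) (TN.node (TN.leaf (nat_lit 0)) (TN.leaf (nat_lit 0))))))
noncomputable def T (j c : ℕ) : ℕ := getL tt (nat_lit 21) (nat_lit 255) j c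
noncomputable def E (j c : ℕ) : ℕ := getL tt (nat_lit 21) (nat_lit 0x1fffff) j c
theorem T_eq (j c : ℕ) : T j c = E j c % 256 :=
  getL_mod (a := 8) (b := 21) _ _ (by norm_num) (by norm_num) (by norm_num) (by norm_num) j c
def rels : List (List ℕ) := [[nat_lit 0, nat_lit 0, nat_lit 0], [nat_lit 2, nat_lit 0, nat_lit 2, nat_lit 0, nat_lit 2, nat_lit 1, nat_lit 2, nat_lit 1], [nat_lit 2, nat_lit 3, nat_lit 2, nat_lit 3], [nat_lit 3, nat_lit 0, nat_lit 3, nat_lit 0, nat_lit 3, nat_lit 1, nat_lit 3, nat_lit 1], [nat_lit 3, nat_lit 0, nat_lit 2, nat_lit 0, nat_lit 3, nat_lit 0, nat_lit 2, nat_lit 0, nat_lit 3, nat_lit 0, nat_lit 2, nat_lit 0], [nat_lit 2, nat_lit 4, nat_lit 2, nat_lit 4], [nat_lit 3, nat_lit 4, nat_lit 3, nat_lit 4], [nat_lit 4, nat_lit 0, nat_lit 4, nat_lit 0, nat_lit 4, nat_lit 1, nat_lit 4, nat_lit 1], [nat_lit 4, nat_lit 0, nat_lit 2, nat_lit 0, nat_lit 3, nat_lit 1, nat_lit 2, nat_lit 1, nat_lit 4, nat_lit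 0, nat_lit 2, nat_lit 0, nat_lit 2, nat_lit 3, nat_lit 1, nat_lit 2, nat_lit 1], [nat_lit 4, nat_lit 0, nat_lit 2, nat_lit 0, nat_lit 4, nat_lit 0, nat_lit 2, nat_lit 0, nat_lit 4, nat_lit 0, nat_lit 2, nat_lit 0], [nat_lit 4, nat_lit 0, nat_lit 3, nat_lit 0, nat_lit 2, nat_lit 1, nat_lit 3, nat_lit 1, nat_lit 4, nat_lit 1, nat_lit 3, nat_lit 1, nat_lit 2, nat_lit 0, nat_lit 3, nat_lit 0], [nat_lit 4, nat_lit 0, nat_lit 3, nat_lit 4, nat_lit 0, nat_lit 4, nat_lit 3, nat_lit 1, nat_lit 4, nat_lit 3, nat_lit 1, nat_lit 3], [nat_lit 2, nat_lit 5, nat_lit 2, nat_lit 5], [nat_lit 3, nat_lit 5, nat_lit 3, nat_lit 5, nat_lit 3, nat_lit 5, nat_lit 3, nat_lit 5], [nat_lit 5, nat_lit 3, nat_lit 0, nat_lit 2, nat_lit 0, nat_lit 5, nat_lit 1, nat_lit 2, nat_lit 1, nat_lit 3], [nat_lit 5, nat_lit 4, nat_lit 1, nat_lit 2, nat_lit 1, nat_lit 5, nat_lit 0, nat_lit 2, nat_lit 0, nat_lit 4], [nat_lit 5, nat_lit 0, nat_lit 3, nat_lit 5,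 nat_lit 3, nat_lit 1, nat_lit 5, nat_lit 1, nat_lit 2, nat_lit 0], [nat_lit 5, nat_lit 0, nat_lit 5, nat_lit 0, nat_lit 5, nat_lit 1, nat_lit 5, nat_lit 1], [nat_lit 5, nat_lit 3, nat_lit 4, nat_lit 0, nat_lit 4, nat_lit 3, nat_lit 5, nat_lit 3, nat_lit 4, nat_lit 1, nat_lit 3, nat_lit 4], [nat_lit 5, nat_lit 3, nat_lit 5, nat_lit 4, nat_lit 5, nat_lit 3, nat_lit 5, nat_lit 2, nat_lit 4], [nat_lit 5, nat_lit 0, nat_lit 2, nat_lit 3, nat_lit 4, nat_lit 1, nat_lit 3, nat_lit 1, nat_lit 5, nat_lit 0, nat_lit 3, nat_lit 1, nat_lit 4, nat_lit 0, nat_lit 2, nat_lit 4, nat_lit 0, nat_lit 3, nat_lit 4, nat_lit 2, nat_lit 1, nat_lit 4, nat_lit 0]]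
def inv (i : ℕ) : ℕ := Nat.land (Nat.shiftRight (nat_lit 0x1ac681) (Nat.mul (nat_lit 3) i)) (nat_lit 7)
def X_t : TN := (TN.leaf (nat_lit 0))
noncomputable def X (i : ℕ) : ℕ := get9 X_t (nat_lit 1) (nat_lit 1) i
def Jp_t : TN := (TN.leaf (nat_lit 0))
noncomputable def Jp (i : ℕ) : ℕ := get9 Jp_t (nat_lit 1) (nat_lit 1) i
def J_t : TN := (TN.leaf (nat_lit 0))
noncomputable def J (k : ℕ) : ℕ := getV J_t Jp k
def Pa_t : TN := (TN.leaf (nat_lit 0xf36be5cfc6af8c5f0e1e14fbc2f775eecbdc93b5a76a1ece9d9c7b326640cc6b9843308e5e5cbc397472d0e590cb2396172b9e560ca6994cf2986525ca23938f27064e1c98192d325264a2c9299243248e480c90391cf229e445c889910f2126420c8098f831ea63d0c7a38f131e1e3c1c76b8e571ca6393c6e18d931b0e354c6a58d0f1a16334c6678cc3198d314a6274c1297ad2e5a5a74b12961d2b0a5634a9694ad280a50349d693a5265a4ab494a9225240a48348d6912d204a40748028f2d1d5a3a347128e051c1a36946ce8d851b1a34746568c2d175a2e945ce8b95165a2a9454e8a85151a28b450609041218229044e080410181eb0392071c0d481a70302060c0b5816902c2058c0a58149028e04a4093810b0202040c07480e101c6032c06480c6c155828b0456088c10181ab0346066c0c9812b0246046c08900a2013402080448028000))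
noncomputable def Pa (i : ℕ) : ℕ := get9 Pa_t (nat_lit 15) (nat_lit 32767) i
def W_t1 : TL := (TL.node (TL.node (TL.node (TL.node (TL.node (TL.node (TL.leaf [nat_lit 2, nat_lit 0, nat_lit 1, nat_lit 1]) (TL.leaf [nat_lit 6145, nat_lit 3, nat_lit 0, nat_lit 3, nat_lit 0, nat_lit 3, nat_lit 1, nat_lit 3, nat_lit 1])) (TL.leaf [nat_lit 12291, nat_lit 4, nat_lit 3, nat_lit 4, nat_lit 3])) (TL.node (TL.node (TL.leaf [nat_lit 2055, nat_lit 1, nat_lit 2, nat_lit 1, nat_lit 2, nat_lit 1, nat_lit 2, nat_lit 0, nat_lit 2]) (TL.leaf [nat_lit 20505, nat_lit 2, nat_lit 0, nat_lit 3, nat_lit 0, nat_lit 4, nat_lit 0, nat_lit 3, nat_lit 0, nat_lit 2, nat_lit 1, nat_lit 3, nat_lit 1, nat_lit 4, nat_lit 1, nat_lit 3, nat_lit 1])) (TL.leaf [nat_lit 40971, nat_lit 0, nat_lit 3, nat_lit 1, nat_lit 5, nat_lit 0, nat_lit 3, nat_lit 1, nat_lit 4, nat_lit 0, nat_lit 2, nat_lit 4, nat_lit 0, nat_lit 3, nat_lit 4, nat_lit 2, nat_lit 1, nat_lit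 4, nat_lit 0, nat_lit 5, nat_lit 0, nat_lit 2, nat_lit 3, nat_lit 4]))) (TL.node (TL.node (TL.node (TL.leaf [nat_lit 30737, nat_lit 1, nat_lit 4, nat_lit 5, nat_lit 4, nat_lit 1, nat_lit 2, nat_lit 1, nat_lit 5, nat_lit 0, nat_lit 2]) (TL.leaf [nat_lit 14345, nat_lit 4, nat_lit 1, nat_lit 4, nat_lit 1, nat_lit 4, nat_lit 0, nat_lit 4, nat_lit 0])) (TL.leaf [nat_lit 34817, nat_lit 5, nat_lit 0, nat_lit 5, nat_lit 0, nat_lit 5, nat_lit 1, nat_lit 5, nat_lit 1])) (TL.node (TL.node (TL.leaf [nat_lit 2057, nat_lit 2, nat_lit 1, nat_lit 2, nat_lit 1, nat_lit 2, nat_lit 0, nat_lit 2, nat_lit 0]) (TL.leaf [nat_lit 2063, nat_lit 0, nat_lit 2, nat_lit 0, nat_lit 2, nat_lit 0, nat_lit 2, nat_lit 1, nat_lit 2])) (TL.leaf [nat_lit 30729, nat_lit 0, nat_lit 5, nat_lit 0, nat_lit 2, nat_lit 0, nat_lit 4, nat_lit 5, nat_lit 4, nat_lit 1, nat_lit 2])))) (TL.node (TL.node (TL.node (TL.node (TL.leaf [nat_lit 10241, nat_lit 2, nat_lit 4,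 nat_lit 2, nat_lit 4]) (TL.leaf [nat_lit 30727, nat_lit 2, nat_lit 1, nat_lit 5, nat_lit 0, nat_lit 2, nat_lit 0, nat_lit 4, nat_lit 5, nat_lit 4, nat_lit 1])) (TL.leaf [nat_lit 34821, nat_lit 5, nat_lit 0, nat_lit 5, nat_lit 1, nat_lit 5, nat_lit 1, nat_lit 5, nat_lit 0])) (TL.node (TL.node (TL.leaf [nat_lit 38915, nat_lit 3, nat_lit 5, nat_lit 4, nat_lit 5, nat_lit 3, nat_lit 5, nat_lit 2, nat_lit 4, nat_lit 5]) (TL.leaf [nat_lit 41006, nat_lit 5, nat_lit 1, nat_lit 4, nat_lit 0, nat_lit 2, nat_lit 4, nat_lit 3, nat_lit 1, nat_lit 4, nat_lit 2, nat_lit 1, nat_lit 4, nat_lit 0, nat_lit 3, nat_lit 1, nat_lit 5, nat_lit 0, nat_lit 3, nat_lit 0, nat_lit 4, nat_lit 3, nat_lit 2, nat_lit 1])) (TL.leaf [nat_lit 2053, nat_lit 2, nat_lit 0, nat_lit 2, nat_lit 1, nat_lit 2, nat_lit 1, nat_lit 2, nat_lit 0]))) (TL.node (TL.node (TL.node (TL.leaf [nat_lit 1, nat_lit 1, nat_lit 0, nat_lit 0]) (TL.leaf [nat_lit 32779, nat_lit 0,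 nat_lit 5, nat_lit 1, nat_lit 2, nat_lit 0, nat_lit 5, nat_lit 0, nat_lit 3, nat_lit 5, nat_lit 3])) (TL.leaf [nat_lit 8196, nat_lit 2, nat_lit 1, nat_lit 3, nat_lit 1, nat_lit 2, nat_lit 1, nat_lit 3, nat_lit 1, nat_lit 2, nat_lit 1, nat_lit 3, nat_lit 1])) (TL.node (TL.leaf [nat_lit 28683, nat_lit 5, nat_lit 1, nat_lit 2, nat_lit 1, nat_lit 3, nat_lit 5, nat_lit 3, nat_lit 0, nat_lit 2, nat_lit 0]) (TL.leaf [nat_lit 32769, nat_lit 5, nat_lit 0, nat_lit 3, nat_lit 5, nat_lit 3, nat_lit 1, nat_lit 5, nat_lit 1, nat_lit 2, nat_lit 0]))))) (TL.node (TL.node (TL.node (TL.node (TL.node (TL.leaf [nat_lit 12289, nat_lit 3, nat_lit 4, nat_lit 3, nat_lit 4]) (TL.leaf [nat_lit 38917, nat_lit 5, nat_lit 4, nat_lit 5, nat_lit 3, nat_lit 5, nat_lit 2, nat_lit 4, nat_lit 5, nat_lit 3])) (TL.leaf [nat_lit 34825, nat_lit 5, nat_lit 1, nat_lit 5, nat_lit 1, nat_lit 5, nat_lit 0, nat_lit 5, nat_lit 0])) (TL.node (TL.node (TL.leaf [nat_lit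 6151, nat_lit 1, nat_lit 3, nat_lit 1, nat_lit 3, nat_lit 1, nat_lit 3, nat_lit 0, nat_lit 3]) (TL.leaf [nat_lit 8193, nat_lit 3, nat_lit 0, nat_lit 2, nat_lit 0, nat_lit 3, nat_lit 0, nat_lit 2, nat_lit 0, nat_lit 3, nat_lit 0, nat_lit 2, nat_lit 0])) (TL.leaf [nat_lit 4099, nat_lit 3, nat_lit 2, nat_lit 3, nat_lit 2]))) (TL.node (TL.node (TL.node (TL.leaf [nat_lit 28689, nat_lit 0, nat_lit 3, nat_lit 5, nat_lit 3, nat_lit 0, nat_lit 2, nat_lit 0, nat_lit 5, nat_lit 1, nat_lit 2]) (TL.leaf [nat_lit 6157, nat_lit 3, nat_lit 1, nat_lit 3, nat_lit 0, nat_lit 3, nat_lit 0, nat_lit 3, nat_lit 1])) (TL.leaf [nat_lit 2049, nat_lit 2, nat_lit 0, nat_lit 2, nat_lit 0, nat_lit 2, nat_lit 1, nat_lit 2, nat_lit 1])) (TL.node (TL.leaf [nat_lit 14339, nat_lit 1, nat_lit 4, nat_lit 0, nat_lit 4, nat_lit 1, nat_lit 4, nat_lit 1, nat_lit 4]) (TL.leaf [nat_lit 38925, nat_lit 5, nat_lit 2, nat_lit 4, nat_lit 5, nat_lit 3, nat_lit 5, nat_lit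 4, nat_lit 5, nat_lit 3])))) (TL.node (TL.node (TL.node (TL.node (TL.leaf [nat_lit 34819, nat_lit 1, nat_lit 5, nat_lit 0, nat_lit 5, nat_lit 1, nat_lit 5, nat_lit 1, nat_lit 5]) (TL.leaf [nat_lit 36873, nat_lit 4, nat_lit 3, nat_lit 5, nat_lit 3, nat_lit 4, nat_lit 1, nat_lit 3, nat_lit 4, nat_lit 5, nat_lit 3, nat_lit 4, nat_lit 0])) (TL.leaf [nat_lit 32771, nat_lit 1, nat_lit 3, nat_lit 5, nat_lit 3, nat_lit 1, nat_lit 5, nat_lit 1, nat_lit 2, nat_lit 0, nat_lit 5])) (TL.node (TL.node (TL.leaf [nat_lit 30725, nat_lit 0, nat_lit 2, nat_lit 1, nat_lit 5, nat_lit 0, nat_lit 2, nat_lit 0, nat_lit 4, nat_lit 5, nat_lit 4]) (TL.leaf [nat_lit 32781, nat_lit 5, nat_lit 1, nat_lit 2, nat_lit 0, nat_lit 5, nat_lit 0, nat_lit 3, nat_lit 5, nat_lit 3, nat_lit 1])) (TL.leaf [nat_lit 32773, nat_lit 3, nat_lit 5, nat_lit 3, nat_lit 1, nat_lit 5, nat_lit 1, nat_lit 2, nat_lit 0, nat_lit 5, nat_lit 0]))) (TL.node (TL.node (TL.node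 (TL.leaf [nat_lit 26627, nat_lit 5, nat_lit 3, nat_lit 5, nat_lit 3, nat_lit 5, nat_lit 3, nat_lit 5, nat_lit 3]) (TL.leaf [nat_lit 36881, nat_lit 4, nat_lit 1, nat_lit 3, nat_lit 4, nat_lit 5, nat_lit 3, nat_lit 4, nat_lit 0, nat_lit 4, nat_lit 3, nat_lit 5, nat_lit 3])) (TL.leaf [nat_lit 36877, nat_lit 5, nat_lit 3, nat_lit 4, nat_lit 1, nat_lit 3, nat_lit 4, nat_lit 5, nat_lit 3, nat_lit 4, nat_lit 0, nat_lit 4, nat_lit 3])) (TL.node (TL.leaf [nat_lit 28675, nat_lit 3, nat_lit 0, nat_lit 2, nat_lit 0, nat_lit 5, nat_lit 1, nat_lit 2, nat_lit 1, nat_lit 3, nat_lit 5]) (TL.leaf [nat_lit 36887, nat_lit 4, nat_lit 5, nat_lit 3, nat_lit 4, nat_lit 0, nat_lit 4, nat_lit 3, nat_lit 5, nat_lit 3, nat_lit 4, nat_lit 1, nat_lit 3]))))))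
def W_t2 : TL := (TL.node (TL.node (TL.node (TL.node (TL.node (TL.node (TL.leaf [nat_lit 24577, nat_lit 2, nat_lit 5, nat_lit 2, nat_lit 5]) (TL.leaf [nat_lit 38919, nat_lit 4, nat_lit 5, nat_lit 3, nat_lit 5, nat_lit 2, nat_lit 4, nat_lit 5, nat_lit 3, nat_lit 5])) (TL.leaf [nat_lit 14337, nat_lit 4, nat_lit 0, nat_lit 4, nat_lit 0, nat_lit 4, nat_lit 1, nat_lit 4, nat_lit 1])) (TL.node (TL.node (TL.leaf [nat_lit 2051, nat_lit 1, nat_lit 2, nat_lit 0, nat_lit 2, nat_lit 1, nat_lit 2, nat_lit 1, nat_lit 2]) (TL.leaf [nat_lit 16385, nat_lit 4, nat_lit 0, nat_lit 2, nat_lit 0, nat_lit 3, nat_lit 1, nat_lit 2, nat_lit 1, nat_lit 4, nat_lit 0, nat_lit 2, nat_lit 0, nat_lit 2, nat_lit 3, nat_lit 1, nat_lit 2, nat_lit 1])) (TL.leaf [nat_lit 10243, nat_lit 4, nat_lit 2, nat_lit 4, nat_lit 2]))) (TL.node (TL.node (TL.node (TL.leaf [nat_lit 32775, nat_lit 5, nat_lit 3, nat_lit 1, nat_lit 5, nat_lit 1, nat_lit 2, nat_lit 0, nat_lit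 5, nat_lit 0, nat_lit 3]) (TL.leaf [nat_lit 14347, nat_lit 0, nat_lit 4, nat_lit 1, nat_lit 4, nat_lit 0, nat_lit 4, nat_lit 0, nat_lit 4])) (TL.leaf [nat_lit 34829, nat_lit 5, nat_lit 1, nat_lit 5, nat_lit 0, nat_lit 5, nat_lit 0, nat_lit 5, nat_lit 1])) (TL.node (TL.leaf [nat_lit 14343, nat_lit 1, nat_lit 4, nat_lit 1, nat_lit 4, nat_lit 1, nat_lit 4, nat_lit 0, nat_lit 4]) (TL.leaf [nat_lit 28685, nat_lit 0, nat_lit 2, nat_lit 1, nat_lit 3, nat_lit 5, nat_lit 3, nat_lit 0, nat_lit 2, nat_lit 0, nat_lit 5])))) (TL.node (TL.node (TL.node (TL.node (TL.leaf [nat_lit 34823, nat_lit 1, nat_lit 5, nat_lit 1, nat_lit 5, nat_lit 1, nat_lit 5, nat_lit 0, nat_lit 5]) (TL.leaf [nat_lit 6149, nat_lit 3, nat_lit 0, nat_lit 3, nat_lit 1, nat_lit 3, nat_lit 1, nat_lit 3, nat_lit 0])) (TL.leaf [nat_lit 38929, nat_lit 4, nat_lit 5, nat_lit 3, nat_lit 5, nat_lit 4, nat_lit 5, nat_lit 3, nat_lit 5, nat_lit 2])) (TL.node (TL.node (TL.leaf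 [nat_lit 28687, nat_lit 2, nat_lit 1, nat_lit 3, nat_lit 5, nat_lit 3, nat_lit 0, nat_lit 2, nat_lit 0, nat_lit 5, nat_lit 1]) (TL.leaf [nat_lit 34827, nat_lit 0, nat_lit 5, nat_lit 1, nat_lit 5, nat_lit 0, nat_lit 5, nat_lit 0, nat_lit 5])) (TL.leaf [nat_lit 28673, nat_lit 5, nat_lit 3, nat_lit 0, nat_lit 2, nat_lit 0, nat_lit 5, nat_lit 1, nat_lit 2, nat_lit 1, nat_lit 3]))) (TL.node (TL.node (TL.node (TL.leaf [nat_lit 24579, nat_lit 5, nat_lit 2, nat_lit 5, nat_lit 2]) (TL.leaf [nat_lit 40969, nat_lit 4, nat_lit 1, nat_lit 3, nat_lit 1, nat_lit 5, nat_lit 0, nat_lit 3, nat_lit 1, nat_lit 4, nat_lit 0, nat_lit 2, nat_lit 4, nat_lit 0, nat_lit 3, nat_lit 4, nat_lit 2, nat_lit 1, nat_lit 4, nat_lit 0, nat_lit 5, nat_lit 0, nat_lit 2, nat_lit 3])) (TL.leaf [nat_lit 22543, nat_lit 0, nat_lit 4, nat_lit 3, nat_lit 1, nat_lit 3, nat_lit 4, nat_lit 0, nat_lit 3, nat_lit 4, nat_lit 0, nat_lit 4, nat_lit 3])) (TL.node (TL.leaf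 [nat_lit 30723, nat_lit 4, nat_lit 1, nat_lit 2, nat_lit 1, nat_lit 5, nat_lit 0, nat_lit 2, nat_lit 0, nat_lit 4, nat_lit 5]) (TL.leaf [nat_lit 30739, nat_lit 4, nat_lit 5, nat_lit 4, nat_lit 1, nat_lit 2, nat_lit 1, nat_lit 5, nat_lit 0, nat_lit 2, nat_lit 0]))))) (TL.node (TL.node (TL.node (TL.node (TL.node (TL.leaf [nat_lit 4097, nat_lit 2, nat_lit 3, nat_lit 2, nat_lit 3]) (TL.leaf [nat_lit 30731, nat_lit 5, nat_lit 0, nat_lit 2, nat_lit 0, nat_lit 4, nat_lit 5, nat_lit 4, nat_lit 1, nat_lit 2, nat_lit 1])) (TL.leaf [nat_lit 6155, nat_lit 0, nat_lit 3, nat_lit 1, nat_lit 3, nat_lit 0, nat_lit 3, nat_lit 0, nat_lit 3])) (TL.node (TL.node (TL.leaf [nat_lit 6147, nat_lit 1, nat_lit 3, nat_lit 0, nat_lit 3, nat_lit 1, nat_lit 3, nat_lit 1, nat_lit 3]) (TL.leaf [nat_lit 20509, nat_lit 3, nat_lit 0, nat_lit 4, nat_lit 0, nat_lit 3, nat_lit 0, nat_lit 2, nat_lit 1, nat_lit 3, nat_lit 1, nat_lit 4, nat_lit 1, nat_lit 3,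 nat_lit 1, nat_lit 2, nat_lit 0])) (TL.leaf [nat_lit 2061, nat_lit 2, nat_lit 1, nat_lit 2, nat_lit 0, nat_lit 2, nat_lit 0, nat_lit 2, nat_lit 1]))) (TL.node (TL.node (TL.node (TL.leaf [nat_lit 40998, nat_lit 4, nat_lit 3, nat_lit 2, nat_lit 1, nat_lit 5, nat_lit 1, nat_lit 4, nat_lit 0, nat_lit 2, nat_lit 4, nat_lit 3, nat_lit 1, nat_lit 4, nat_lit 2, nat_lit 1, nat_lit 4, nat_lit 0, nat_lit 3, nat_lit 1, nat_lit 5, nat_lit 0, nat_lit 3, nat_lit 0]) (TL.leaf [nat_lit 14349, nat_lit 4, nat_lit 1, nat_lit 4, nat_lit 0, nat_lit 4, nat_lit 0, nat_lit 4, nat_lit 1])) (TL.leaf [nat_lit 30721, nat_lit 5, nat_lit 4, nat_lit 1, nat_lit 2, nat_lit 1, nat_lit 5, nat_lit 0, nat_lit 2, nat_lit 0, nat_lit 4])) (TL.node (TL.leaf [nat_lit 6153, nat_lit 3, nat_lit 1, nat_lit 3, nat_lit 1, nat_lit 3, nat_lit 0, nat_lit 3, nat_lit 0]) (TL.leaf [nat_lit 38913, nat_lit 5, nat_lit 3, nat_lit 5, nat_lit 4, nat_lit 5, nat_lit 3, nat_lit 5,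 nat_lit 2, nat_lit 4])))) (TL.node (TL.node (TL.node (TL.node (TL.leaf [nat_lit 26625, nat_lit 3, nat_lit 5, nat_lit 3, nat_lit 5, nat_lit 3, nat_lit 5, nat_lit 3, nat_lit 5]) (TL.leaf [nat_lit 22544, nat_lit 0, nat_lit 4, nat_lit 3, nat_lit 1, nat_lit 4, nat_lit 3, nat_lit 0, nat_lit 3, nat_lit 4, nat_lit 0, nat_lit 3, nat_lit 4])) (TL.leaf [nat_lit 28679, nat_lit 2, nat_lit 0, nat_lit 5, nat_lit 1, nat_lit 2, nat_lit 1, nat_lit 3, nat_lit 5, nat_lit 3, nat_lit 0])) (TL.node (TL.node (TL.leaf [nat_lit 36870, nat_lit 1, nat_lit 4, nat_lit 3, nat_lit 5, nat_lit 3, nat_lit 4, nat_lit 1, nat_lit 4, nat_lit 3, nat_lit 5, nat_lit 4, nat_lit 3]) (TL.leaf [nat_lit 32785, nat_lit 2, nat_lit 0, nat_lit 5, nat_lit 0, nat_lit 3, nat_lit 5, nat_lit 3, nat_lit 1, nat_lit 5, nat_lit 1])) (TL.leaf [nat_lit 38918, nat_lit 5, nat_lit 3, nat_lit 5, nat_lit 4, nat_lit 5, nat_lit 3, nat_lit 5, nat_lit 4, nat_lit 2]))) (TL.node (TL.node (TL.node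 (TL.leaf [nat_lit 14341, nat_lit 4, nat_lit 0, nat_lit 4, nat_lit 1, nat_lit 4, nat_lit 1, nat_lit 4, nat_lit 0]) (TL.leaf [nat_lit 18433, nat_lit 4, nat_lit 0, nat_lit 2, nat_lit 0, nat_lit 4, nat_lit 0, nat_lit 2, nat_lit 0, nat_lit 4, nat_lit 0, nat_lit 2, nat_lit 0])) (TL.leaf [nat_lit 40977, nat_lit 5, nat_lit 0, nat_lit 3, nat_lit 1, nat_lit 4, nat_lit 0, nat_lit 2, nat_lit 4, nat_lit 0, nat_lit 3, nat_lit 4, nat_lit 2, nat_lit 1, nat_lit 4, nat_lit 0, nat_lit 5, nat_lit 0, nat_lit 2, nat_lit 3, nat_lit 4, nat_lit 1, nat_lit 3, nat_lit 1])) (TL.node (TL.leaf [nat_lit 22547, nat_lit 3, nat_lit 1, nat_lit 3, nat_lit 4, nat_lit 0, nat_lit 3, nat_lit 4, nat_lit 0, nat_lit 4, nat_lit 3, nat_lit 1, nat_lit 4]) (TL.leaf [nat_lit 8199, nat_lit 1, nat_lit 3, nat_lit 0, nat_lit 2, nat_lit 0, nat_lit 3, nat_lit 0, nat_lit 2, nat_lit 0, nat_lit 3, nat_lit 0, nat_lit 2]))))))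
def W_t : TL := (TL.node W_t1 W_t2)
noncomputable def W (i : ℕ) : List ℕ := TL.get W_t i
def WA_t : TL := (TL.leaf [nat_lit 0])
noncomputable def WA (i : ℕ) : List ℕ := TL.get WA_t i
noncomputable def row : ℕ → ℕ := hRow (nat_lit 175) (nat_lit 6) (nat_lit 5) (nat_lit 256) (nat_lit 128) (nat_lit 32768) (nat_lit 4096) (nat_lit 4096) (nat_lit 0) E X Pa inv (wfun (nat_lit 89) W_t)
noncomputable def aux : ℕ → ℕ := hAux (nat_lit 176) (nat_lit 6) (nat_lit 256) (nat_lit 32768) (nat_lit 4096) (nat_lit 2) (nat_lit 2) (nat_lit 4096) (nat_lit 0) E X J Pa inv WA_t.get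
theorem r0 : Nat.beq (rng row (nat_lit 0) (nat_lit 176)) (nat_lit 0) = true := by decide +kernel
theorem rows : ∀ i < 176, row i = 0 := by
  have h := zero_lt_zero row
  have h := zero_lt_add (a := (nat_lit 0)) (n := (nat_lit 176)) (b := (nat_lit 176)) h r0 rfl
  exact h
theorem auxs : ∀ i < 0, aux i = 0 := by
  have h := zero_lt_zero aux
  exact h
theorem closes.{u} : ClosesT.{u} inv rels 6 5 176 T :=
  hc_closes (N1 := (nat_lit 175)) rfl T_eq (by decide +kernel) rows auxs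
theorem T_inv : ∀ c < 176, ∀ j < 6, T j c < 176 ∧ T (inv j) (T j c) = c := 
  hc_inv (inv := inv) (N1 := (nat_lit 175)) rfl T_eq rows
end L5

namespace L6
def t0x : TN := (TN.node (TN.leaf (nat_lit 0x2027603027fda803cabc00f05600c930006c9a80240d8da5102027403027dda18bf818016a3e0073c30ba30d0030aa40172760531b702915d1847e0404de6488f90101375700202d0c20e02026e030279d7001f661a1fb5a008a010136c1005240404da58891201013640809b00c09dd5c04f9810135d798cb8ff625702026b030275d60038e6402002600c2070054188037eac011d020267030273d78023858019658050381013314014e61c01487c63400200a360984b48c01b41800768101318181384600a4a5e00678101310a8026e0404c20604de100ba0ce002dc940a885e009481012f818136c5c2e692600892d005b0a8036240013d5800d72a002ddb184c08c2db86600758d00424c18c8408028604014201012c418134c411261646d0101012c110029c0404af04013d81012b818133c0404ad0604ce2b003940809580c099904013ab1309ac080956840a344d68e4ab0b791920c3c84c5c55004e508028c97014620404a80604c6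2e02820c8029608026e02025202009b41004d8bc0a355e04d10101281620b564000cb2a00bf8101274d8025c480a1a26050b080285438132a0404980604bc30308add8146604049602024a820099d0813406e954942607719005b4718372ccd9fa5216e821003d9b22458440982020246030259dca0bde90c19a1e00b181012241812c40404880604b008027b04013d408025e3004f107027803813bc0802587a172482009541004a6500154020241830254d905c961400d11200a793004952dac7a5409be2e0053969a7008001821400ca3604ba17002400808f80c09452b26a301011ec10048c34007f6a88f7120023c7001ea28013c1a05118a003003002669c0a1852892081011c818126c39f134080039b3368ec0808e00c09312c009782008e80808de0c092d18007894004a810047004046d06049402008d9118b4204046c3e00819f31651d802ea14da120e88c89c0b48d398ad610da0d0c88c72cc06340808d20c09195882c5010119c18122c0802291a008991002f48802103d1d10020231830243c59b276080221020230830242c58016608021f02022fae027a410043640c17c46008f27004e0685a0c44d97b0c88bd05024900808b80c08fd5616fe820082c10041240097e2a007ba2687d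0d1b36004045506047a2a3672c500164b82df5040102020080c1004020801fe5376c0810113c1811d40801f65860ed87001d8e20ac804044c06047227025cc0808960c08e12a04ed06315783182ba0801e62c88ad85315682982b20801dc26166f82007580808904c098728006991001a01003a448008b0400e882007380808889ad58f1c004f020072038019204044106046402007047012844da14c02022002006eced32e02000740c005f82006d41003664400bc24265d910025c78007e2c004e0400d781010e818116c0404390400d508104ac10034ab705834200b882006741003360801980a76bc81010d418115408018b0400c481010d018114c4634d418625c89002880808663e096818004e020060071b1f024005b20048381010c01811340801771e001e19a051d3801c43c00941200498f0024848012244c14320003b81010b018111c08016616003106001d41002c208015f020214830221c2811aa2400840400a901010a01811041408cd16003d010109c1810fc080144188862820050008084c0c087904009f050013420005608013a04009c82004d43800e2080130040096060008c10024e0c4cfe02021083021ac1002303c004704008a8f811984000a8380064040087106834010021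438006020004d81010701810bc0800fc14d04f8d022840808360c085910002b8a0230c1001e618001f10002993022d00808300c085104007489000ec1001cc0800e304007001010541810940c6c85040069010105018108c0c64800c0021810104c10018e2110561aee51810104818107c0800ba04005c02002d48c20a404040f06041c07411b81001520800a51a002d010103418106408009918e417810103018105c08008d04004506470a810010c08008104003e82001e00808140c0825062a1b01010241000d4340020040032810102018103c08005d04002c010101c1810340800500a0421054705810009208004506200b82000f408080a0c081104001b850208810006208002d0a0005820009018581c08001d04000c8500018100020100004020200830200c100004040400)) (TN.leaf (nat_lit 0x8c0138010197dd80538ec029594014b8101851f804ca0406108c01314530a7dd85d3b140a987e011e3100a04080bbe0405d45a00ec33008e5a804f11401eb6c00f43600765f0050e0405ac72013f39008a8080b4e0c0a85600138c0da8717803c2cc01d50202d1b236a2581b51c04059f06053e16006b60804d4cc01c61400d4810165c1814ed100a9e0202c9b802a69700374d4c6966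201222c0084d8804b67001f17c00e63f00875280388c8022d5600f83d00949e804220405690202b2c60ba6db8040d102e7a84213a410085d8002ed0da28a5e00c34200640080ab00c0a592c894781015581814ac04055506052a24008b980049a5002500202a8c1309a1a803f004054d6805278101529e80440fc02430202a0830291c080a7e980230340117b1319dd50037a0405322601143500a09381498d402196a05201d005f51224fac401b702029303028dd7803a6040522020290810146c080a34b8c66f7c172428309999a249ce00a6478632eb7006a17803c6ec01ed2401139a0089890044ab80a910202868101430181444580157260088b10047e0814f2ccc23e3601078101411e98d260405027e00ae01014000809fed8c2725400c436007e41005330cc694320082a631a2d88039a0404fa06050601013e418141464011702027934006900809de0c0a054600b7b4029fc700386640a90)))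
def t1x : TN := (TN.node (TN.leaf (nat_lit 0x800ff01013b16001f6d401f53200f234005b1a92424d0924d0800fb01013a17801e08c00f65e00edb3007acd8fcd8a87e677400b2b6004fdd1ac5024015e883f46090057578020cd4fe8b0800f30101371a173fab001925c3f14990056d72150220015a04014888005642003b80404d85a0073960037da9ad14b10a8f0800eb01013599125000802905c6b1a810134408099ea8016b0800e7010133980fc1af4d66b560079290063d3803260404ca566aeab2249e1100320907e691a3f00840070408098c5c014a603ee896005314a14821001bb0202612d2e9c47802da9001ac603f1c04006d408097c888dc402025eaf247e8a123626c00f502025bab1f6bca974f40802885a00c081012cc49fceed90a2a0401428400694080962ccd60604013fb00060d18024a88017104013e040067408095c10019b020256a5005902003300404ac04013b15917304002f2800122040139aa357ec40023f05625a4e0066070046d68023410018b0202542d0045c08094ea4ba1328006a2e5996ccd13e248b9d35c005812005a15001d604049e286abf91003e0e0fc7444010424008007003fc30015610017702024c2f59975d6b242700147500071283f7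c105515e7800c1443f019b586e4c4e2dcb30db250008e85357d01004c84000a00800b301012301004c67400e51c7eb1840058408091210015f02024407003783801baf966172e006d86003683001b20802592a6b1002009581004a84d65540800a9010120c10049e187dd2106aa7a13f6841004985000c4303ec48200928e002e0187dc834004b160050c20028804047c2400480f0031410048e04047a04012281011dc79236025653c18008681011d00808e69909022828de84004d40808e43c01340a3e9c82009002002600404702a5c979a2e5f420025804046f12005913244a972136e10012702023682008dc944a9c1800fe3a008f02008d0100466d091f960490f222e40d50fba0bb1dcd04011902008c4200230040469305d0404004540808ceb2f1e3186a89921f6cc90fc3e400110080087010118c100446080222080085010118460fb5442211122004d8e00404c1fc1e08021a3d569182008616e43d208021604010a84001b02001f804045c5a5cf282008301004143c009d28847ba0ac5a869227a1000f302022a820081c58fa56b8fdfc040102a2005bc5a13860801ff6448d584003a408089e0801f73c48f9810113551ab341000e3020226262e2542001c004044b28006b82007b01003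d40801e70400f102007801003bc0801dd0400ed020075c30010a4800a4267e69810111c2172a04400625c48df820073c3001000801ca1e3ec0042e52031f9921000c702022082007086800f60801be16002b02006f079aa92247d3a0a845f82006d88212244160bc26005d81010f068014604043b5378d704002d408087450005214de8489663c410034c0801a20400d002006781003380801990400ca84002a408086a08018c2c48a584002940808680801871c001f885c2887000b408018216002d8d3532c1002fc2c7c9f1e282f8400264080860080178203e5d02005d01002e638fc941048498e592484119225a4546223e9f0400234080858080167223e6801010ac1002c408016008004301010a42000902160840400a98400204080850100044183ea004001f408084e0801450400a10a6a1fc2000f00404261e2847861f39828f9141c90c0063a9982004d83170e208013104009688000d81002500801240800350101084100232407cd204008b100019808083e34d4640400878a4222c10021635606004008384001740808380800fd10844e0c230cc2000b004041b0e482b89001001001e81c7c650e462992000e42000a00404180400750a1f2e021d0ec0800e4040070840012408082a0800d51c743404001140808280800cd0a7e21860005c1001900800c31c7e5c84000f408082439e897106a2702002d8100168100037020207840008c1001540800a604005084000c408081a08009a1a001784000b408081808008e06243a87000a810010e08008204003f02001e420004804040a0a483706000381000d631c4200a742a040007408081008005e04002c840006408080e080051080009860005810009408004604002102000f820002004040504001c040002410006408002e084805820009410004408001e04000d04230181000220c50040800010101004100006080000))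 (TN.leaf (nat_lit 0x8c014b45009d1e0052ae8ba9d8e013139009c8080c2318029492494db6009c1d215391002107c010c81017857804486802002e012bb1009f4080b8d1001f24e010744009719804fc9801b87a494481016a02005080405a72200dd34d18f980fd24fc01c76a01013823a1d18047210027b0202cfc50098210043ad07e8d64012104009d4080b2f0c025f5200e4b70085179750714d69f5e01180101620080b0c0405856400cb402e9e4c0036908024e0202b929008b9f0fd32e4022c7800f7c53fa5c880348dc01ad04014f0101571e80456c001d9603f36c2007142004b00405588000ec0400954080aac1002530202aabc35999b803f04cfe506a0125b4008b57924a2a0023d6600a89900701f002aefc022f0801230101505c003dcc0fe6f7c5d2419006a550026ed8023b7600f6b40087130029af8fe9368009901014b991251c04052908011b01014998003088801947800ba890063978031a94fe44324921a32394989acd0dc01696200bb381fa18080a2848d63f226b13993f8988ac44ab401df1c009d8400884080a18f0ba490202843300645f1fcd504028202028293005f1a2c478a00138803f2f14005ec4802f408029a563f370600481e11cca080298343f0db5007a028023810020b02027d04008240809f2bc018a5a00e5b6429842004080404ef020277330068c0809da6285d4)))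
def t2x : TN := (TN.node (TN.leaf (nat_lit 0x5cacffad087f8e8023c74010b2600a513005a1b19c946c1e203200aeaa00418981beac41a956e009101013908843e23c22803000ad350079de99cec2022936200ddae28849480240c40178680ef734d07982001bc1000dd08006e06004a0d8033ccc00ee50008ea028a196ab3ba980e7108006d050049c38024c1c012558ad0394257583002643400f91406e989257493802de1c010854113b8200a3c30025c5401070e007f17567283801f42c95c81406e38b0371858438a0c1e8a02026393005f10802b21c00e80e007397336f8681b7a4559bc6010f5a4004cd1802681000c01c008d2128961092b6a3801172850d992036c89033623001102200878a086b8d003360404b50e00783306a1c4803426000e91200cfad566981005023c00e02e00c3b2079f840435208027d100ed39a07785603b3ab40d9c3206d693003d14801ca489598760719860895c78332adcce63360080180040408095488225b76113281012a4a001c29ae18c5010829f038d90143124801852c0cd18603948881b10400d840c0cc1b45b884301b0248a1802800bf13075fc301c9c48cdc26a0f1f810126430349ac01de82ac2bb860392d801c187c00c152009b8a03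5c8501ae22821704c06e89b0789c200122d55a221610b5b90697008091a4819fa220082200036458019e2c0d641610b191075881004c4bd5a310401308308974c03bee5800ad02024397037bd012b825c01180c005586002a03001481800a322004f10255484801f6180d500c0ea7860026c3001301800970c004b12077ec58014e280d481410a38a06519a844582c954412003f10335083001125001131c008a130023c38017620009d0e005b8a254e9630a7294209a500eb98200904b81a6a881db94606dd050675598343c18ce322a007c0508734399c3018ce1508111c84001c42000dc14cde20866ed06037643043b04e39246a0f15b6067cde2b42ca021e90202359c037f53843beb81e2d0202350d066dd0292325819581a06da2c03851999c0a340d3f260ea00101194201c482c19b0204ad78f524382000c628190c3810fe1b003ac501a12180dd0280ce629037d9480316421d67060d0c8101178b84324681d9302022e860672c1004225984fc1006a88603724601ba8500d2f02022c04038202000ae481d9a22005609033c84819e21821ab06110132337800808a22820ec340c851200230b84350180dc00c06df925639945eb320801f220c27186001c898331a381da42a00430308794183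bc80c19e3020225030876cf83acc28007302022486001b02800e018006718002c89253484019a2201cd01406b2860017c2800de18005c0c002d09033284841922958c80400e1860013c30009c18004d1866618600130f2b2e80c19b802021f0d001a46800d03400780c0c9e91802e85800c82c94b80c0e9d89632d810035818005210005808002bc40015c1c20b30e0e5907062c4a832b84020f30a0cab820064410031c140d56140ca49000248783144140d550a10aa10002947bf942140ca00a0e4f903354c3842780404310a0ca726004e01002f4140d4d0a0ea6050652c48192a242094120c498f802981832da04042d24c29f0a072381002d2440cea1400228a6b228281a821400360400ad942537c28006a1400340a0019880016c2929021400300a0017880750c4928fa14002c0a001585000a86800cc301cbc0e063b86000f030007618003a120c6c0508388181a541020d5080e6683064a40808441418d604008f820046c60197c3020bd0a066a0c061e41002242820b9060c8681010784818c2241c600a0c6702004081001fe140ccc0e0e41050632c5841a60800f7060c7a81010684018aa202054100c2985062d01001da2584500a06630507314283188140cc20a0011820036c1001ae1400210a000f873911848311614001c0a000d88561082800301400170a000b02002fc5038401420760a0e3a85061d02818721c00370ca81c040622020190a101c84080c4184390c8100138100c8008103f885b0b8100120100c7c08103d84071e820001c10000d080006040002c31984a140011080c2582001b42018902c003d080c23820018841283a100c4408102182001583a9032100c4108102004070fc20001210000808000384000182140481094100a060783030a41840500c1c27060c13010100c18182a0c2014060e0983060480808041018040400050200014181802040400))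 (TN.leaf (nat_lit 0x760f4fc633a784004d2040637740123b800952014533155a9830074b8c08a599003e8d422941200f63228a49819d22d8023e0202e70c06a39a12d1a300e8c8c011e8400710981d129cce886800d5210077a299d0b10025f5c0741ae08a08080b4a4001f07201393300688080b410c027468073dad039e9703cf2b81a785600e7be007b5f804e7080e7c7c513ab8339fd3803b89c0e704e1137bf289ba1144daf8026a6e01213d089b0381d3a581e6864011d8c07999e0031ee8ce647000ca0101584080abf0802178651422e259782002bce8016a4600c818008b9199cb28801b60e00cb2b0086d392caadcce9a6c01020700618881ca24422506e011e07005f43802f2595a4c0e00bb37007e4581c92300e48720d4d9225919c99c8ab422445a0d21b6079ac080a6cb55a406c00bdb533a42284516d95a4f620d33b2258e8280256d8020604014e2000628a03c6ae402037800cb87004c18002c0842230420d179707969780238d801456c0091b600869b9445268020b3800b71008898803c4a140111246711b6005b1a803047001f8564b0fb4004c5580426a8020954672b35068a820020620012d820f303d00484380258b4011654070eaf007a80809fa5c0e102e11079707838b8341ac401753207141a56829483c381400f65a00ebb5288e1a0022ad4a25370671a04003bc7944022c1e00)))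
def t3x : TN := (TN.node (TN.leaf (nat_lit 0x6da54124007142802703400f9645b0381013a9a003e00404e83000beb3004c58865129801bb02027234cf488d97cbccc25f97200b539d586c0809bcf4b67304014aaf5584550023e1000dd26992b452f9e9e96cecc4017802026db00984ce2ad02d4268a5a008b2109870997caaf826601400932a0062c4001b4a400fb6200a52d006100809aa70010b2a00e3af006c9387472ac00d954007d142d93d817cce0404cd0202662a005dd0074ee08028e281ae9acc29b91d8bfc5400ee2a0076b72f94d084c5c6826204e00710d003986801e284be7b4a12fa26005802001820404bf02025f170e9a9816c1e480137285ed9ae2f7480809740404b92600892b4c6b8d001c03c00bc0a006a32003a4706c50080287080059062d69828033c64019b0202583100445597c163c00f6080057842f69421633a0802783012d2302f8d90001846801712a1d2e990d92c7001e408027434007f81012a8c802020c2672020254bb67994080950fcbe4852aaed11003d0e802e06d56612a0059b100608d002beb0b1d6020250300d6195802a050016308004f070054cb863eeac3a0402024cb4098fc080930c025e45258e5116795c887484740134557e8b8d00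490cc1b3070bd891a00958f005000809201000a452007638097bdb2ac5804048c2cab011f004202001583801352612c01aa438d696c6e96c9ba3212c2bc0c8ccd0649c0404872a00568200970184cb40404860202429300385a874443000970c5abf050028468024aaa0d810a004f810120010049a6400a302023fb00975c0808fc60009530004a01011f4a8011a50b144140053942d5088aac8239696e745f1c13001f00808ec24009c08003a87002d81004861031fd2212da11002246baac8719d742e991881011c19363ec08023d26007b82008ed2802464cb616181ab792002980808dac0261d400082890e76c606aa231d172485a96b5007c9b04c2a04046b52aaf4a32d26958642804046a5c131681011a410045e5640df5600b9ac0e77c1004541426060a1313922f6bd817b441000640a0032852c4380808c4040461361aea1a00318b801a27831662600378200878fd6a4e5568ef02022f0200864c2ab2204045d3212c9810117010042408020d50ceec290e73c633bf80404582412978e096800808ac40258a1e00678d7d65460637a1000672c00821409710a2ab86a2b56b02022782007e98b3b540801f80800390c2d6f80808980801f33600b1260c6fc945aac6425ad2c008c02007b4184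bd004044a0400f1870c7655063a004044912003981011201003aa1039ab14002d932f348b4ca125424d01d067981011101003980801cb02022184001546ad19254b4c8280028997d4289800d00404401800211fa9664184b7204043e0400dc02006dc88009c3955ac02021e02006c410036035e4b808001d862f4e84800f01000412924c3830969c0808700801a30612cf81010dca062b60c356502021a820064810031e08018d1212a191554a873c1080c396c3012a604000d0217aa40801830812a783095fc08086221553c02021824004781002f608017916ceaa01010bcbcea905d69470202170a6d1c408085a08016d0202160c11238a16a8a080168020215875e228842a6c0404290400ae02005601002ae3c00a50202140c0016420006408014e0400a5820052410028c4a153e120022840009c38007a20bcb50e183b82004f4184a7604042410186b830d39c580124080132241283810108810025204042104009002004701002344824c5061c780400080216a1e0c251002020f020043410021810246002020e020040c1002000800fe12ce69810106c5b39040800f802020d02003d418f1941d305402020c810106099798e34245004007590092f408082e0800e502020a82003701001b00800d602020a142d11842d0f60800ce0400658b6c30c18b9680800c408000982003003168f20800bb06125b81010442a50720800b104005701010381001560c24a2020206831620410013a08009b04004b020024c10012208008f040045840003010011008008306123d010102830002008007402020482001b81000d80c2466020204020018c18883a08005f04002d020015c1000a6080052040026840001c10009608004706121f810101410007415242506180782000d81000660c242a020201820009810004608001f06120b01010081000240404010400058200018100008040400))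 (TN.leaf (nat_lit 0x76134fca00a61a804bebc026202031a36008f9b804df24b69e6c01084167a58080bd720028c66013ab22fa49e80414e8025470011e01017219004531d9e9456011936007819003ea9c02260202d43c0082560048c9c026970012cb7007fce803c26c024a68012dae00890800410f802634400de460079a08048a04059c4200e4be007959075260405947c00f60400641d8042f0432706c5f4cad0071990043e6c025866010618006d9317d08bc02306200e6aa00801e0031ce8b6647a5b3e2e55a70e00310fc01dc68194e9c007c4b0032e04055a665b3f8400565b86d0668b26c2400bb140079ca003bae4b6907000e11b00885780480399e502a00e71b00574080a9ad4023a3400cb1a0ea0108046b00018c560101ab2da16004cf2d0020e02029c92005d4900282b832516a00bd352da68080a60dd568f020297342f9314003a2ec013f5c00b0b10066900649208029b7a00af2a67a2cc00266b8266802028ca200705780236dc016970010c0101455897d1a3c01a90c0089a6ada20304c4ab4267e1e5b11b600554d06ca46c01c0625f3681014198802508801de7400f72d00814080a04dc262b74193894004b1b80242b0011d6200f101013f58003d4d432976200dab3679100809f8c8266b5800d0bc2da45d84d0c3d567d6600fd8600451626434b0017c545b23970059cb17c02a42666)))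
def t4x : TN := (TN.node (TN.leaf (nat_lit 0x645336b532a456934a6848277020275353281c0809d21400eb3000adaa005e99803a40404e44a00ddb520a55714d1abc01aa7000a28101379cea436dca66c48009107004a17802580404dc6600f2b5299b9966bce0404db6000bc2f3d8480809b4d000ed52008d860049d600232b0ca333400cf3a29a18c1ed02a800fe6000b42f049453802c03000fa2e00cab2047d53824102800d81c0085bd2999da9949e1401291c0092acc48c07001f22499c81a00792c049e93994140404c704014528004e10001be1000c626008b930039860237ab0a67b4864f9a5003540809808801341a006b2e299d59904864400e72200691604a24b0017434010d3600b72c3288cc8030e3c00bb76411c2ec57c1900344e0ca4a020258a300510c0024c0404b03000cdb1466a41004fc2c012b020257192076d55f1900802792f3ed181012b1200168a411980a09389a20934b023a672a25f02025519003fcd002000404a9040139323296c2801570146594e4d04870033ce802e04801553008d6b004830200148bcca405800a802009ac2001404c015202024e92004f030015a04049a1e410f29047da014caebf29e304013404002606824a48000bf5000711004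9244022e270a5890e007b1a296bc3801ea64015f04013301012360904b8bc11d72800811f0035dd14c6c2411641e8c50860038c394c069881d5308cb6020098008090e54124e2e08fbbf048b008090c08025a280070840021488231034009622004e1229600400198ac8183020240850022018249604047f30005188002304001161c114820004a0720519b823de8ab9a602023d90265082000f84c01121a006a143d90468016a44817e02023a0b002d98e641e9cc9c2020239120023c9aba6a8481b802023818208c410047e08023e08003882008f1799434b8c9e91464d013003e021039818c9ea0a64ef17046946903960802355caf02a3047ac0808d6d4ca1560410b2c208100808d4ac1214507aef85001b15abbba08022e2408df82008b4100456100067020232922950018245004046304011382008946103606000d11aaee782008802000c21800732400370f0026410043804045e2c4077938a59c0808ba648191307ac9292076010042608020e08002e0b0475068239248812a22004906045bc3102da2c00f314e07a0c0471c3021e20802062e0081810114599ebc00802000840fc02007ec1003f210004f2008da12326f82800a40801f40a64b127b95cc9902ae3400b33e4ce082007b8080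8940801e80400f202007840808922411d03c08b30c206dd20237430113f16002d10266ccb902180404460c08c5050012c2000da1c11511a002c88043285230a8ac019d0400e2030470008088048006816a261840010408087c0801b93e7aba0c0012080009a04043c1c7ad615646c46000c430a4b802021d0a644e861027a8ebd99189e7001010e010034e0801a402021b820067c2822fa08019a0840c6820064c1003201000350c00228a001607901060c11852e64a581010cc8002c60c118102021901010c41002fe40c9530a001b02005f071320c0c11760202178c2055038212a3d19470e4049903d3dc3000ae18005622409b04001401002d41c114a0e40a4882922820005810814e0400ae82005641822ac040428200052870010c10029e1000290400a607000ac3130fa0c11410400a1810109860008e2d18760c083b8c001e008084808013b0a088402004dc18225e080133020211115741c18e19a10811a040090820047420004244f4c406088a010107c10022604041e0400880b3d2e418221204041d0a001182004101002020c10fb02020d8a2034c6101962588a60a4048853d2402820aa2c00c90a402984203941001dc0c688e060874010105c7bf17a10001808406702003741001b22c10be16403c82003402a314e1000150c9e4107571081821840800c502020902003044a30280800bc02020882002dc3820720800b2040057842026c18215004040d040051020027c10013c10000e04004b86320b82800340c10890c643f010102c18210008008402020502001e82a584a08007508402f82001bc1820d204040804003302001901000c010000904002d84290b42130320c104c040027010101818208828003d02020282000fc1000761944100a080783040c0100068040403040015020009c1820380800200202010200058100026108004040006020001c182002040400))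 (TN.leaf (nat_lit 0x203324800a61a804e8fc029b7c7b4e38008f62004751cca9e0801084400a49b003e50c028c6801354329a59b003fcd0023280011d8a20a397803e308129456012a010170cb803649c02267601403b0076920048cf002634801242fc987cc803b2e882878601328101684600472b802695a00de2d00718080b390002454400fe2f0095978036cd0129d88012c010163c30032f0c02016a012636007999803fee001ec0202c13320a4d6994f80405777c00e701015ae12bcfe08029f7653423b008d1c0044404055e3a00ca35008a608042f0801696600c701015620803190cca738200bcae579d9b0045ea8a68b5c00fe8e005d58003ac49fa506c00e69600570d8032cd0a66f0800a6b9006a08802e48c12837a011ba332a15f824f0d4020d6800dab300884a8027cc0018402029881014c1b9953404052e7e7b47c329a6459ecfaf001ab786523bb00594080a48e8f6625a00ee3332a40c80264b401ca6a4d2a8101460080a2d00015a02028ab700861a134bc100111020287a64fa20080a1c68020b5a00d7373d98591348404050a60014110005ed6004220405057400f6b0004b4c80404d8f62a80532eb10047db00240b0011c02027eb00078958243a0c129764009c81013f1a10488c401863209122800715400316a001d16c00fd01013c1780246b4011e1000b098208661024e00404ec)))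
def t5x : TN := (TN.node (TN.leaf (nat_lit 0x2600a21700675d002360404eb6054fd989b884b82bf2ec2a38660b422a0584c482beac935f470008fc3349d80809c60404e008006fb800485c269c81c012802026eb83e9880809b8c8f9e87a7d0b0200a500809b6c001bb5000900200a4de82ca618012702026cb034a413802ee989ddc02026ba8003b95802380404d65a7d30af0072139f51e1000d42600788727749e1a4782015d0520072a7004c808099a5429cc109ae5aec68bc402b92b815d60800650305a3008099008028b187ce18c407090803205415c014007d97346f8b8032a5c019c5e54f207003d92002541c00f5569adb8c056d8acbc1c1000be10006193056c8b1bb622135b058007c01012d8902b5a48f9ac02025a06006880809640404b11c0ad38200a08c02b4a0802801a0088852a6a808095e4029a01a0acf962a810b13bfc5a55bc5c70cd9b056681004eebcd2352c9b3a01012acb02b7a0404aa7e153016002b5c1a4c68181c14e9b2e3a278acd26b1a08026f4e708104002a0c8028c481588300b120400290882b0a5c01350c14c1af005a0682b02440142249abf92405f8402afaac157c040135093e5e8426af22501784c68ee8b0033c402aea700140524eb98400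254f802480404937469278101245226c4e04048f020247020099461f2d2badd821880b3a700474a82c96a4d24002024537278a5b67424690160346903810121c1004be54010104012e81012181004b69c012d04012b9f058d8182ca404048324005e02009403801ce1815501aeca7880a53820010054008b109aa58b055286001080c164902023e982a62499a40a48d1ff264ea1902a600402a826d0174200a9fb44088850021a040474189a9d9ba7894100488100073547c9b8200908b02b08100071460b0426b373921a4688cd10330008781011bd35b2b096dd2c020237233e6e410047218d1ec0a68f02e058b40808d87815713c005481011adbe9bdc9c29e36e7cf981011a9334acca815d9720afe8f0a468100460b4d2180800349a384581004583c15142200608c3e448602b462da5102e6e9782008984a6a7a14290c3546851b0042c802a121c150822808383058740808bc441504480098280062ca02ab8080217327c7f874d3f8b9b9fa08020f120adf87053e85800ceac9daf147c7b86056e831f3706414f42000440400154902ba6040452020228a7377681004040404500400fe12001f0b0015c2814e80c0aa8882a399402b9ee401ed0400f8810112c41c1c20801f0060af78101128100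3d60801e90400f281011241003be90289a0400ed82007602000da0c15d4020223920014c3029a2489cd0140abb070a33810039a1000440e9a65830571c0808840801c51670638400104a2698a24005b0e54d987053088302261800570e7c5f83056d008087a44f953100031922a2e80808762000a10e905b82006b88a296a0801ab02021c02006a41003500404370400d095053a4a853240404360400cb0200650e93a460c158a02021a110024089f14a0c158602021990602883a81701c14a0186e4f90001e03000741800620e144da50036041b932100030140022874d258182ae404042e0400b801010b41002dc40f8a60400b602005ac59c11a10002c2854a6020058c3829123c28f30400af02005682000522cf9490400aa06001342939020c154d0202138a371f810028e4414ea020213073e1e879f0f23cdc9e0a0a3b81010905000c808013c060a9c010108c182a6804042204009702004ac18c1aa0801250400910200478182a2e040420140a7c8e451985950ca2580750e9a5d853e2702828c23ce0600c142f8200414c138ba10001c107c62064d16850003e249c580a8a60093e1581829e404041923186902003c01001de0800ec08000c096013829a10418144c04007102003781001b410001504006985401184af92e0c14cc020209820032418298c0404120c7c1f86380f810017a04041104005c85452742828720800b304005802002b020001c0800a704005186340c828003c0c149802020602002501001240c148c02020586480a818290a04040a04003f82001ec21c04a08007604003902001c020001208006812682c842a0c421383a0c145c02020388370681000a80c144f0202030548058182890040405040021820010010007810dc10080a0783050d408080608002f04001582000a018284204040204000d820005c1000280c28040400068200020182802040400))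 (TN.leaf (nat_lit 0x8e0148c700a34502d3ae4fa9c6a013ab840a69f805070c025e6c013c01018019a6d2a0405e60202f1400099a31553ec401de5000eab10094631a53c1001c60202e245008f4b82d1298022360013f37008f9a804dcd001f77c4f4c8101698c9f5020405a46c693faf4da1c89f4fb040233800122b700919a80420d416970202ccc4007c9a26d365c01977e0123b44d9c8d82ce2d0026d0202c63440a15982ce0f4023f66012081015ec482cd30c0255585533bf2aa48080ad4e4020a7200c8b9007a97003af0001930202aec234a60080ab6a0018f0202acc32a969400474a09e580202abb94095a113cd0d102547c00f08400555826d1c0405527600b789059384a6c9b0402482c00b2984092820029100d24c7c9b39b6059e9f82cf604053966010681014d99154d6a80164784f36362aa1a215514f401d1289b1da734964080a52f001f8709b1ba00055980033094013180813e26008657204620405195e00e5330a8b978024c0405157600c73a0a8a9c002c43016284a00b68101438e002746401874a814435004f8c803f4c002066a0100ba0080c20020cacfa1c38550dac4086929f464b801180202803e0079cd2042a2016145600fb3700584c1f422d0167902027e16006d592048669020c320b05b840990d93c129001333600afaf05880a0028a5c019e72690f01013b5a13c3e080296)))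
def t6x : TN := (TN.node (TN.leaf (nat_lit 0x6a572634cb9180809d6e4011b2400a19b00644b002fedd3a532e009b29004080809cc6085f47000c7183c7c8c913e23c89f002026f37005155b9bda2089ec4600c808217a95913d2ac85e87c45163f2b990b802b45c01595286f19a2b789e10c705489e054453b9521779315bba9400e1120078172b7680809aca8011c5e00c9ae006012a1baa0404d302026931006f93002da0404ce22008ea36573970035e550dcc58008b2a2b7280809964801420202648101320100518913a7544792c16004dd0801ba0404c5020262304e748080986608a4460452d81013012001aa8c01332e79408a0031d995cf00404bd2c00ca81012e81005125d3a0b5a44e695226b808096a64019b0e006d0f4e6a859135234013c1a009d8200a0cb802342885a418005db12b6885113428cada018005b9a218181004f43801393042d61a003fd5001b2a00146020255b2439d0ab9b66c401825c9ceb93002b0d21bf48889eb4ce6c7b73c7cc1004e2080270504309810129cf10c6a0404a52e009e810128c0809440404a15a00a7b02265008093eb5cdd62a42fc942b928080936a8017332f6bd930059c1004d264ad78313cbb810125c08092c7489745242be0101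250080926717524020248a52b93d2a73a2508a5d3044b599215a8c9e2d24400aa2478bd1e0039408091604048a5445201921588d272c2ad756070450bbb2b888c9e4825000882800479622794b10bc8a0895874571981012100809060802522442a982009440809040404815886c182009380808fe08024b5e9d0601011f8f2746c04047d040124a7ba661b273dc0802482242fd914e7200808f450854002023c880021cb4a30e3089a81842d38f5d4e8695b380404722a56e1162b7dcacb1700404704442dc0d734c8387a623d3930020237990043c507a5a51ed2c1a449581011b469e2521c3d2828569381011b1690c5a7401700202359f002a5c1140a990d207443159b22428810b9ea50dd8709cfe1694695527232a4f1180202342b4e72dc15c2c0404661442898a3c4480808c6080228304497117b4381004486400d02000351c004780808c004045f264283810117810043a40009942e681a84e7d86001e6d886073242cd02008505a741208021002022d81011680808b24c84cd16787b810115c10041024005d16428081011500808a62089db2c447796213b8b1e1da5c88ec0400fe91001eca8013a04044e02022682007d4ea72cc5d4ce4309c71a5222692583b83884e002022502007bd010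b82a90cdc2c004306226ad49e33220004b100029020076519e3720404470400ea020074c08088c60850c0202228200740a001f00404430400e4810110810038e0801c61256db01011001003800801bf0400de81010fc4909820801ba12785f81010f41003681484bc16e6d182006c82911725801351642cf94982d810035a1800491444598a212c86000e82488b01242578b000e808086c490d920400cb904e5a0f112440404340400c510532981003100404330400c302006141003080404320400c09021278a271d240f09c0400bea600388790a0804042f0400bb02005d408085c0801720400b889222481002de24f0902678ad9721238c2711a04042b0400b282005900808544d0d5c0e9c9f153c36c0808500801560400aa82005441002a00404270400a68200528100290040426210c75020050410027e25947802021287221d83908ea2cf0b102021182004e00808440801340400978c431b81002540801260400918f2b42c08084008011702020f82004504ae8ca3c84640400888f3c18808083a08010904008402004184159e804041b04007d82003e81001f229945804007b083c1580808320800f2040078873c35cac78a259385002020b82003a01001ce0404160e866c020037c29596804041404006a020034410019e04041304006602003280808240800c604006108530f810017c10883c08421d8a6e2b808082024f038101e1b82002b408081a0800a8040052020028079106204040c04004c020025441085a04040b040046020022408081408008504004002001f01000ee18f02404003982001c40808100800690400338e7b0781000c204040704002e07530681000aa040406040027820013008080a0800480400220200104187822080039020202010100c10006a08003004001602000a408080408002104000e020006010002a08000f0400070200024080800080001))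 (TN.leaf (nat_lit 0x820137462ba78080c9ae402546a0145a1008de0005051cae980203071922a59421d2b08020a364549be4ea49a8050a6cae90487947b100941b2751a0405c568e74dc6009cc080b629cae88228743bb4ea19a15d22cc02420202d33f22a64c0036e2c8a806c573f8b219f921e4fb0802576601068101675a0041ed001b55600efa62b9d9280388cc01968a434527219c8080b1a04058c660136c021a7d9274de753a6c66012f9a229a8080af2648668589d339921998d114cb0001e63601109b3c98a2004c10cf261644335c24e978a802d8a5ce5c6200dda9219695004028c01c382573e382b959b90caae0f29c7000fc0101550080aa4c1ce8e4c00b7010153810053ad801ff0202a615005f8080a8e04054450011eb5007f9f004866401bc7bb322b24ea10d002baac016310431f90218f9395c8e68022734871d9a0087c711472f401e140574d1f00524f80312c8ae347600abba2b8c9221c62ac8a30604517aa218b970024afc01e776008fba438a982745204051032431e1222898910c4a04050d5c4311bc00578d15cc6bc0204329d1d2243878080a0aac021177af0dab2b869a21c32a8ae187200afb900455595c2a0404fe5200c5b74e84951e4380404fc66433c8200a5d9274f6c0014b3000d84122a506001fa0404f56e00801b00679c80242b88620489d019722809495cb2608600)))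
def tt : TN := (TN.node (TN.node (TN.node (TN.node t0x (TN.leaf (nat_lit 0))) (TN.node t4x (TN.leaf (nat_lit 0)))) (TN.node (TN.node t2x (TN.leaf (nat_lit 0))) (TN.node t6x (TN.leaf (nat_lit 0))))) (TN.node (TN.node (TN.node t1x (TN.leaf (nat_lit 0))) (TN.node t5x (TN.leaf (nat_lit 0)))) (TN.node (TN.node t3x (TN.leaf (nat_lit 0))) (TN.node (TN.leaf (nat_lit 0)) (TN.leaf (nat_lit 0))))))
noncomputable def T (j c : ℕ) : ℕ := getL tt (nat_lit 25) (nat_lit 1023) j c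
noncomputable def E (j c : ℕ) : ℕ := getL tt (nat_lit 25) (nat_lit 0x1ffffff) j c
theorem T_eq (j c : ℕ) : T j c = E j c % 1024 :=
  getL_mod (a := 10) (b := 25) _ _ (by norm_num) (by norm_num) (by norm_num) (by norm_num) j c
def rels : List (List ℕ) := [[nat_lit 0, nat_lit 0, nat_lit 0], [nat_lit 2, nat_lit 0, nat_lit 2, nat_lit 0, nat_lit 2, nat_lit 1, nat_lit 2, nat_lit 1], [nat_lit 2, nat_lit 3, nat_lit 2, nat_lit 3], [nat_lit 3, nat_lit 0, nat_lit 3, nat_lit 0, nat_lit 3, nat_lit 1, nat_lit 3, nat_lit 1], [nat_lit 3, nat_lit 0, nat_lit 2, nat_lit 0, nat_lit 3, nat_lit 0, nat_lit 2, nat_lit 0, nat_lit 3, nat_lit 0, nat_lit 2, nat_lit 0], [nat_lit 2, nat_lit 4, nat_lit 2, nat_lit 4], [nat_lit 3, nat_lit 4, nat_lit 3, nat_lit 4], [nat_lit 4, nat_lit 0, nat_lit 4, nat_lit 0, nat_lit 4, nat_lit 1, nat_lit 4, nat_lit 1], [nat_lit 4, nat_lit 0, nat_lit 2, nat_lit 0, nat_lit 3, nat_lit 1, nat_lit 2, nat_lit 1, nat_lit 4,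 nat_lit 0, nat_lit 2, nat_lit 0, nat_lit 2, nat_lit 3, nat_lit 1, nat_lit 2, nat_lit 1], [nat_lit 4, nat_lit 0, nat_lit 2, nat_lit 0, nat_lit 4, nat_lit 0, nat_lit 2, nat_lit 0, nat_lit 4, nat_lit 0, nat_lit 2, nat_lit 0], [nat_lit 4, nat_lit 0, nat_lit 3, nat_lit 0, nat_lit 2, nat_lit 1, nat_lit 3, nat_lit 1, nat_lit 4, nat_lit 1, nat_lit 3, nat_lit 1, nat_lit 2, nat_lit 0, nat_lit 3, nat_lit 0], [nat_lit 4, nat_lit 0, nat_lit 3, nat_lit 4, nat_lit 0, nat_lit 4, nat_lit 3, nat_lit 1, nat_lit 4, nat_lit 3, nat_lit 1, nat_lit 3], [nat_lit 2, nat_lit 5, nat_lit 2, nat_lit 5], [nat_lit 3, nat_lit 5, nat_lit 3, nat_lit 5, nat_lit 3, nat_lit 5, nat_lit 3, nat_lit 5], [nat_lit 5, nat_lit 3, nat_lit 0, nat_lit 2, nat_lit 0, nat_lit 5, nat_lit 1, nat_lit 2, nat_lit 1, nat_lit 3], [nat_lit 5, nat_lit 4, nat_lit 1, nat_lit 2, nat_lit 1, nat_lit 5, nat_lit 0, nat_lit 2, nat_lit 0, nat_lit 4], [nat_lit 5, nat_lit 0, nat_lit 3, nat_lit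 5, nat_lit 3, nat_lit 1, nat_lit 5, nat_lit 1, nat_lit 2, nat_lit 0], [nat_lit 5, nat_lit 0, nat_lit 5, nat_lit 0, nat_lit 5, nat_lit 1, nat_lit 5, nat_lit 1], [nat_lit 5, nat_lit 3, nat_lit 4, nat_lit 0, nat_lit 4, nat_lit 3, nat_lit 5, nat_lit 3, nat_lit 4, nat_lit 1, nat_lit 3, nat_lit 4], [nat_lit 5, nat_lit 3, nat_lit 5, nat_lit 4, nat_lit 5, nat_lit 3, nat_lit 5, nat_lit 2, nat_lit 4], [nat_lit 5, nat_lit 0, nat_lit 2, nat_lit 3, nat_lit 4, nat_lit 1, nat_lit 3, nat_lit 1, nat_lit 5, nat_lit 0, nat_lit 3, nat_lit 1, nat_lit 4, nat_lit 0, nat_lit 2, nat_lit 4, nat_lit 0, nat_lit 3, nat_lit 4, nat_lit 2, nat_lit 1, nat_lit 4, nat_lit 0], [nat_lit 0, nat_lit 6, nat_lit 0, nat_lit 6, nat_lit 0, nat_lit 6, nat_lit 0, nat_lit 6], [nat_lit 2, nat_lit 6, nat_lit 2, nat_lit 6], [nat_lit 3, nat_lit 6, nat_lit 3, nat_lit 6, nat_lit 3, nat_lit 6, nat_lit 3, nat_lit 6], [nat_lit 4, nat_lit 6, nat_lit 4, nat_lit 6], [nat_lit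 5, nat_lit 6, nat_lit 5, nat_lit 6], [nat_lit 6, nat_lit 3, nat_lit 0, nat_lit 3, nat_lit 6, nat_lit 3, nat_lit 0, nat_lit 4, nat_lit 0, nat_lit 5, nat_lit 1, nat_lit 2, nat_lit 0, nat_lit 4, nat_lit 2, nat_lit 5, nat_lit 1, nat_lit 3, nat_lit 5], [nat_lit 6, nat_lit 0, nat_lit 2, nat_lit 1, nat_lit 6, nat_lit 0, nat_lit 2, nat_lit 1, nat_lit 6, nat_lit 0, nat_lit 2, nat_lit 1], [nat_lit 6, nat_lit 0, nat_lit 2, nat_lit 4, nat_lit 0, nat_lit 5, nat_lit 3, nat_lit 1, nat_lit 6, nat_lit 0, nat_lit 3, nat_lit 5, nat_lit 1, nat_lit 4, nat_lit 2, nat_lit 1], [nat_lit 6, nat_lit 0, nat_lit 5, nat_lit 0, nat_lit 3, nat_lit 1, nat_lit 5, nat_lit 1, nat_lit 6, nat_lit 0, nat_lit 5, nat_lit 0, nat_lit 3, nat_lit 1, nat_lit 5, nat_lit 1], [nat_lit 6, nat_lit 0, nat_lit 6, nat_lit 3, nat_lit 0, nat_lit 3, nat_lit 6, nat_lit 0, nat_lit 6, nat_lit 2, nat_lit 3, nat_lit 0, nat_lit 2, nat_lit 1, nat_lit 4, nat_lit 1, nat_lit 2, nat_lit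 5, nat_lit 4, nat_lit 0, nat_lit 3, nat_lit 2, nat_lit 5], [nat_lit 6, nat_lit 1, nat_lit 3, nat_lit 5, nat_lit 1, nat_lit 4, nat_lit 1, nat_lit 2, nat_lit 0, nat_lit 6, nat_lit 1, nat_lit 2, nat_lit 0, nat_lit 4, nat_lit 0, nat_lit 5, nat_lit 3, nat_lit 0], [nat_lit 6, nat_lit 1, nat_lit 5, nat_lit 1, nat_lit 3, nat_lit 1, nat_lit 5, nat_lit 2, nat_lit 0, nat_lit 6, nat_lit 3, nat_lit 0, nat_lit 4, nat_lit 1, nat_lit 5, nat_lit 1, nat_lit 4, nat_lit 1, nat_lit 5, nat_lit 2, nat_lit 0, nat_lit 4, nat_lit 1, nat_lit 3], [nat_lit 6, nat_lit 3, nat_lit 6, nat_lit 0, nat_lit 2, nat_lit 0, nat_lit 6, nat_lit 3, nat_lit 6, nat_lit 2, nat_lit 5, nat_lit 1, nat_lit 2, nat_lit 1, nat_lit 4, nat_lit 5], [nat_lit 6, nat_lit 0, nat_lit 2, nat_lit 3, nat_lit 6, nat_lit 3, nat_lit 0, nat_lit 6, nat_lit 1, nat_lit 2, nat_lit 1, nat_lit 6, nat_lit 1, nat_lit 5, nat_lit 1, nat_lit 4, nat_lit 1, nat_lit 5, nat_lit 3, nat_lit 5, nat_lit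 3, nat_lit 0, nat_lit 5, nat_lit 3], [nat_lit 6, nat_lit 0, nat_lit 2, nat_lit 4, nat_lit 6, nat_lit 0, nat_lit 6, nat_lit 4, nat_lit 2, nat_lit 0, nat_lit 6, nat_lit 1, nat_lit 2, nat_lit 1, nat_lit 3, nat_lit 1, nat_lit 5, nat_lit 3, nat_lit 1, nat_lit 3, nat_lit 5, nat_lit 4, nat_lit 1, nat_lit 3, nat_lit 0], [nat_lit 6, nat_lit 0, nat_lit 2, nat_lit 5, nat_lit 6, nat_lit 0, nat_lit 6, nat_lit 5, nat_lit 2, nat_lit 0, nat_lit 6, nat_lit 0, nat_lit 4, nat_lit 0, nat_lit 3, nat_lit 1, nat_lit 2, nat_lit 5, nat_lit 3, nat_lit 5, nat_lit 0, nat_lit 3, nat_lit 1, nat_lit 2, nat_lit 4, nat_lit 5], [nat_lit 6, nat_lit 0, nat_lit 3, nat_lit 6, nat_lit 0, nat_lit 4, nat_lit 0, nat_lit 6, nat_lit 3, nat_lit 0, nat_lit 6, nat_lit 2, nat_lit 0, nat_lit 4, nat_lit 0, nat_lit 3, nat_lit 0, nat_lit 4, nat_lit 5, nat_lit 3, nat_lit 0, nat_lit 3, nat_lit 5, nat_lit 0, nat_lit 3], [nat_lit 6, nat_lit 0, nat_lit 4, nat_lit 0, nat_lit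 6, nat_lit 3, nat_lit 6, nat_lit 0, nat_lit 4, nat_lit 2, nat_lit 1, nat_lit 6, nat_lit 0, nat_lit 3, nat_lit 1, nat_lit 2, nat_lit 1, nat_lit 4, nat_lit 0, nat_lit 2, nat_lit 3, nat_lit 5, nat_lit 1, nat_lit 5, nat_lit 4, nat_lit 0, nat_lit 3, nat_lit 1, nat_lit 5], [nat_lit 5, nat_lit 3, nat_lit 6, nat_lit 3, nat_lit 5, nat_lit 3, nat_lit 6, nat_lit 3], [nat_lit 6, nat_lit 0, nat_lit 5, nat_lit 6, nat_lit 3, nat_lit 0, nat_lit 3, nat_lit 6, nat_lit 5, nat_lit 4, nat_lit 1, nat_lit 6, nat_lit 4, nat_lit 5, nat_lit 3, nat_lit 1, nat_lit 3, nat_lit 5], [nat_lit 6, nat_lit 0, nat_lit 6, nat_lit 1, nat_lit 2, nat_lit 4, nat_lit 0, nat_lit 6, nat_lit 4, nat_lit 2, nat_lit 1, nat_lit 6, nat_lit 3, nat_lit 1, nat_lit 4, nat_lit 1, nat_lit 3, nat_lit 5, nat_lit 0, nat_lit 4, nat_lit 5, nat_lit 1, nat_lit 4, nat_lit 1, nat_lit 5, nat_lit 2], [nat_lit 6, nat_lit 0, nat_lit 6, nat_lit 1, nat_lit 2, nat_lit 5, nat_lit 0, nat_lit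 6, nat_lit 5, nat_lit 2, nat_lit 1, nat_lit 6, nat_lit 2, nat_lit 4, nat_lit 1, nat_lit 5, nat_lit 1, nat_lit 3, nat_lit 2, nat_lit 5, nat_lit 0, nat_lit 5, nat_lit 0, nat_lit 4], [nat_lit 6, nat_lit 0, nat_lit 6, nat_lit 3, nat_lit 6, nat_lit 1, nat_lit 4, nat_lit 5, nat_lit 0, nat_lit 6, nat_lit 1, nat_lit 6, nat_lit 2, nat_lit 0, nat_lit 3, nat_lit 4, nat_lit 0, nat_lit 2, nat_lit 5, nat_lit 3, nat_lit 5, nat_lit 1, nat_lit 5, nat_lit 4, nat_lit 1, nat_lit 3, nat_lit 0]]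
def inv (i : ℕ) : ℕ := Nat.land (Nat.shiftRight (nat_lit 0xfac681) (Nat.mul (nat_lit 3) i)) (nat_lit 7)
def X_t : TN := (TN.leaf (nat_lit 0))
noncomputable def X (i : ℕ) : ℕ := get9 X_t (nat_lit 1) (nat_lit 1) i
def Jp_t : TN := (TN.leaf (nat_lit 0))
noncomputable def Jp (i : ℕ) : ℕ := get9 Jp_t (nat_lit 1) (nat_lit 1) i
def J_t : TN := (TN.leaf (nat_lit 0))
noncomputable def J (k : ℕ) : ℕ := getV J_t Jp k
def Pa_t : TN := (TN.node (TN.leaf (nat_lit 0x73b01cec173ad9ceb573a91cea373a51ce8373a01ce8173999ce447390dce42738d5ce0573799cde47378dcde073755cdd073715cdc473701cdc1736d5cdb4736cdcdb073691cda073655cd9073601cd81735d5cd7073599cd6573581cd617354dcd3673499cd11733c5cce673381cce173355ccd37330dccc0732d9cca173259cc8673215cc74731c9cc6073185cc5673119cc40730d9cc2073085cc0673011cbf372f8dcbe072f85cbd672f45cba672e8dcb9372dc5cb6572d59cb5272d158b3162c958b1562c518b1062c458b0462c0d8b0062bd58af062b918ae062b858ad062b458ac462b018ac162ad98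ab562ac18aa562a918aa362a898a9462a4d8a9262a0d8a8062a058a76629c58a56629018a36628998a166280d8a00627d989e16275189d0626d989a46264d89926260d8980626058976625998960625418946624d989356245989156240d88f56239588d46234988c36230188c1622d988a6622958890622458880622058875621d18873621c988656219188636214d8846620d98835620c1883162099881662051880361fd987f461fcd87e661f8d87d661f5587d361f0187c161ed187b061e9987a161e59877161d8d874561d11874161cc5872661c91872061c85870661c11870361c01870161bd986f561bc186f161b9586d661b4d86d061b4586c661b1586c061ad986b561ad186b361ac986a561a9186a361a89869361a41869161a198670619c58666619518652618d98634618c186316188d86136184186116181985f6617c185e66179585e46178d85e26175185d36174985c36170185c1616d985a66165985836160985766158d8550615458546614d98525614558514614498505613cd84f0613c584e66135984d16130d84c06130584b5612c184b16129984a56129184a3612898495612518493612498483612018476611d58471611998464611598443611018436610cd84266109584106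104584066101184036100183f660f9183e360f8983d660f5583c460f0d83c160ed583b160e9183a060e85839050e15438450e0d437550dd1437350d99436550d4d435050d45434650d15434050d05433650cd5433450cc1432650c91431450c4d431250c0d430050c0542f650bd142f350b9942e550b8d42d550b4d42d250b0d42c050b0542b650acd42b150a99429350a41429150a19428450a0d428050a054276509d54270509c54266509954264509814261509594245509114243508d94235508994225508914223508894213508414211508194205507d941f4507c541e45078d41e25075941d45070d41c05070541b6506d141b3506c141b15068d41a25065941955064d4183506014181505d94174505cd41665054d41505054541465050d4140505054136504d541305049941255049141205048541155045141135041900f0403c500e34035900d44034d00d04034500c64031500c04030500b6402d500b44029900a54029100a34028100a14024d00904021900844020d0080402050076401d50070401c5006640195006440159005540151005340141005130118c036300d4c034300ccc03230098c02530090c023300888013200408011100180000)) (TN.leaf (nat_lit 0x8991225f0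8935a237288d0e21408844621008839a200587ace1e65878961e11877c21d408738a1c83871861c56871161c3486c5a1ac076a0dda81769c1da7176999da6576949da45768c1da1476809d9f0767c5d9d676711d9c376655d970765c5d943764c1d8f476359d8c676315d88176185d85176091d7b575e59d77475c85d6b475a95d69075941d612757c9d5e475755d5c1756d5d5a375655d58475601d581755d5d56075585d55075545d54675499d52575441d4e67534dd4d075319d4a0751d9d44675041d41174fc1d39574e4dd36574d89d32074c51d30474c0dd2e474b8dd2e174a55d29174981d26174911d22074841d1b074681d1957464dd18474591d15574551d15374505d106743d1d0e574391d0d674341d0c074305d0a474205d06374159d05474145d0407408dd02074015d00073fc1cfe673f51cfd373f49cfc673f15cfc473f0dcfa073e85cf9073e45cf5673c81cf0473bc1cef173b85ced573b45cec4)))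
noncomputable def Pa (i : ℕ) : ℕ := get9 Pa_t (nat_lit 18) (nat_lit 262143) i
def W_t1 : TL := (TL.node (TL.node (TL.node (TL.node (TL.node (TL.node (TL.leaf [nat_lit 2, nat_lit 0, nat_lit 1, nat_lit 1]) (TL.leaf [nat_lit 57359, nat_lit 0, nat_lit 6, nat_lit 0, nat_lit 3, nat_lit 5, nat_lit 1, nat_lit 4, nat_lit 2, nat_lit 1, nat_lit 6, nat_lit 0, nat_lit 2, nat_lit 4, nat_lit 0, nat_lit 5, nat_lit 3])) (TL.node (TL.leaf [nat_lit 2051, nat_lit 1, nat_lit 2, nat_lit 0, nat_lit 2, nat_lit 1, nat_lit 2, nat_lit 1, nat_lit 2]) (TL.leaf [nat_lit 53276, nat_lit 3, nat_lit 6, nat_lit 3, nat_lit 1, nat_lit 3, nat_lit 6, nat_lit 5, nat_lit 3, nat_lit 0, nat_lit 5, nat_lit 2, nat_lit 4, nat_lit 1, nat_lit 2, nat_lit 0, nat_lit 5, nat_lit 1, nat_lit 4, nat_lit 1]))) (TL.node (TL.node (TL.leaf [nat_lit 51203, nat_lit 6, nat_lit 5, nat_lit 6, nat_lit 5]) (TL.leaf [nat_lit 73747, nat_lit 1, nat_lit 6, nat_lit 0, nat_lit 4, nat_lit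 0, nat_lit 3, nat_lit 1, nat_lit 2, nat_lit 5, nat_lit 3, nat_lit 5, nat_lit 0, nat_lit 3, nat_lit 1, nat_lit 2, nat_lit 4, nat_lit 5, nat_lit 6, nat_lit 0, nat_lit 2, nat_lit 5, nat_lit 6, nat_lit 0, nat_lit 6, nat_lit 5, nat_lit 2])) (TL.leaf [nat_lit 18440, nat_lit 4, nat_lit 1, nat_lit 2, nat_lit 1, nat_lit 4, nat_lit 1, nat_lit 2, nat_lit 1, nat_lit 4, nat_lit 1, nat_lit 2, nat_lit 1]))) (TL.node (TL.node (TL.node (TL.leaf [nat_lit 63517, nat_lit 1, nat_lit 5, nat_lit 3, nat_lit 0, nat_lit 6, nat_lit 1, nat_lit 3, nat_lit 5, nat_lit 1, nat_lit 4, nat_lit 1, nat_lit 2, nat_lit 0, nat_lit 6, nat_lit 1, nat_lit 2, nat_lit 0, nat_lit 4]) (TL.leaf [nat_lit 57365, nat_lit 3, nat_lit 5, nat_lit 1, nat_lit 4, nat_lit 2, nat_lit 1, nat_lit 6, nat_lit 0, nat_lit 2, nat_lit 4, nat_lit 0, nat_lit 5, nat_lit 3, nat_lit 1, nat_lit 6, nat_lit 0])) (TL.node (TL.leaf [nat_lit 20489, nat_lit 2, nat_lit 1, nat_lit 3, nat_lit 1, nat_lit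 4, nat_lit 1, nat_lit 3, nat_lit 1, nat_lit 2, nat_lit 0, nat_lit 3, nat_lit 0, nat_lit 4, nat_lit 0, nat_lit 3, nat_lit 0]) (TL.leaf [nat_lit 77865, nat_lit 3, nat_lit 5, nat_lit 1, nat_lit 5, nat_lit 4, nat_lit 0, nat_lit 3, nat_lit 1, nat_lit 5, nat_lit 6, nat_lit 0, nat_lit 4, nat_lit 0, nat_lit 6, nat_lit 3, nat_lit 6, nat_lit 0, nat_lit 4, nat_lit 2, nat_lit 1, nat_lit 6, nat_lit 0, nat_lit 3, nat_lit 1, nat_lit 2, nat_lit 1, nat_lit 4, nat_lit 0, nat_lit 2]))) (TL.node (TL.node (TL.leaf [nat_lit 14349, nat_lit 4, nat_lit 1, nat_lit 4, nat_lit 0, nat_lit 4, nat_lit 0, nat_lit 4, nat_lit 1]) (TL.leaf [nat_lit 22541, nat_lit 3, nat_lit 1, nat_lit 4, nat_lit 3, nat_lit 1, nat_lit 3, nat_lit 4, nat_lit 0, nat_lit 3, nat_lit 4, nat_lit 0, nat_lit 4])) (TL.leaf [nat_lit 2063, nat_lit 0, nat_lit 2, nat_lit 0, nat_lit 2, nat_lit 0, nat_lit 2, nat_lit 1, nat_lit 2])))) (TL.node (TL.node (TL.node (TL.node (TL.leaf [nat_lit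 79873, nat_lit 5, nat_lit 3, nat_lit 6, nat_lit 3, nat_lit 5, nat_lit 3, nat_lit 6, nat_lit 3]) (TL.leaf [nat_lit 57371, nat_lit 4, nat_lit 2, nat_lit 1, nat_lit 6, nat_lit 0, nat_lit 2, nat_lit 4, nat_lit 0, nat_lit 5, nat_lit 3, nat_lit 1, nat_lit 6, nat_lit 0, nat_lit 3, nat_lit 5, nat_lit 1])) (TL.node (TL.leaf [nat_lit 67599, nat_lit 3, nat_lit 6, nat_lit 2, nat_lit 5, nat_lit 1, nat_lit 2, nat_lit 1, nat_lit 4, nat_lit 5, nat_lit 6, nat_lit 3, nat_lit 6, nat_lit 0, nat_lit 2, nat_lit 0, nat_lit 6]) (TL.leaf [nat_lit 81932, nat_lit 4, nat_lit 6, nat_lit 0, nat_lit 4, nat_lit 5, nat_lit 6, nat_lit 3, nat_lit 1, nat_lit 3, nat_lit 6, nat_lit 5, nat_lit 1, nat_lit 6, nat_lit 5, nat_lit 3, nat_lit 0, nat_lit 3, nat_lit 5]))) (TL.node (TL.node (TL.leaf [nat_lit 34821, nat_lit 5, nat_lit 0, nat_lit 5, nat_lit 1, nat_lit 5, nat_lit 1, nat_lit 5, nat_lit 0]) (TL.leaf [nat_lit 53273, nat_lit 1, nat_lit 4, nat_lit 2, nat_lit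 5, nat_lit 1, nat_lit 3, nat_lit 5, nat_lit 6, nat_lit 3, nat_lit 0, nat_lit 3, nat_lit 6, nat_lit 3, nat_lit 0, nat_lit 4, nat_lit 0, nat_lit 5, nat_lit 1, nat_lit 2])) (TL.leaf [nat_lit 30733, nat_lit 1, nat_lit 2, nat_lit 0, nat_lit 4, nat_lit 5, nat_lit 4, nat_lit 1, nat_lit 2, nat_lit 1, nat_lit 5]))) (TL.node (TL.node (TL.node (TL.leaf [nat_lit 75816, nat_lit 4, nat_lit 1, nat_lit 6, nat_lit 3, nat_lit 1, nat_lit 6, nat_lit 3, nat_lit 1, nat_lit 5, nat_lit 3, nat_lit 1, nat_lit 3, nat_lit 5, nat_lit 4, nat_lit 1, nat_lit 3, nat_lit 1, nat_lit 4, nat_lit 1, nat_lit 2, nat_lit 6, nat_lit 1, nat_lit 3, nat_lit 6, nat_lit 1]) (TL.leaf [nat_lit 57375, nat_lit 0, nat_lit 6, nat_lit 0, nat_lit 2, nat_lit 4, nat_lit 0, nat_lit 5, nat_lit 3, nat_lit 1, nat_lit 6, nat_lit 0, nat_lit 3, nat_lit 5, nat_lit 1, nat_lit 4, nat_lit 2])) (TL.node (TL.leaf [nat_lit 28675, nat_lit 3, nat_lit 0, nat_lit 2, nat_lit 0, nat_lit 5, nat_lit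 1, nat_lit 2, nat_lit 1, nat_lit 3, nat_lit 5]) (TL.leaf [nat_lit 61471, nat_lit 0, nat_lit 2, nat_lit 5, nat_lit 4, nat_lit 0, nat_lit 3, nat_lit 2, nat_lit 5, nat_lit 6, nat_lit 0, nat_lit 6, nat_lit 3, nat_lit 0, nat_lit 3, nat_lit 6, nat_lit 0, nat_lit 6, nat_lit 2, nat_lit 3, nat_lit 0, nat_lit 2, nat_lit 1, nat_lit 4]))) (TL.node (TL.node (TL.leaf [nat_lit 32771, nat_lit 1, nat_lit 3, nat_lit 5, nat_lit 3, nat_lit 1, nat_lit 5, nat_lit 1, nat_lit 2, nat_lit 0, nat_lit 5]) (TL.leaf [nat_lit 61457, nat_lit 6, nat_lit 2, nat_lit 3, nat_lit 0, nat_lit 2, nat_lit 1, nat_lit 4, nat_lit 1, nat_lit 2, nat_lit 5, nat_lit 4, nat_lit 0, nat_lit 3, nat_lit 2, nat_lit 5, nat_lit 6, nat_lit 0, nat_lit 6, nat_lit 3, nat_lit 0, nat_lit 3, nat_lit 6, nat_lit 0])) (TL.leaf [nat_lit 16387, nat_lit 1, nat_lit 2, nat_lit 0, nat_lit 3, nat_lit 1, nat_lit 2, nat_lit 1, nat_lit 4, nat_lit 0, nat_lit 2, nat_lit 0, nat_lit 2, nat_lit 3,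 nat_lit 1, nat_lit 2, nat_lit 1, nat_lit 4]))))) (TL.node (TL.node (TL.node (TL.node (TL.node (TL.leaf [nat_lit 4097, nat_lit 2, nat_lit 3, nat_lit 2, nat_lit 3]) (TL.leaf [nat_lit 84020, nat_lit 6, nat_lit 2, nat_lit 5, nat_lit 0, nat_lit 4, nat_lit 0, nat_lit 5, nat_lit 4, nat_lit 1, nat_lit 5, nat_lit 3, nat_lit 0, nat_lit 4, nat_lit 0, nat_lit 3, nat_lit 6, nat_lit 0, nat_lit 2, nat_lit 4, nat_lit 6, nat_lit 1, nat_lit 4, nat_lit 2, nat_lit 0, nat_lit 6, nat_lit 1])) (TL.node (TL.leaf [nat_lit 30723, nat_lit 4, nat_lit 1, nat_lit 2, nat_lit 1, nat_lit 5, nat_lit 0, nat_lit 2, nat_lit 0, nat_lit 4, nat_lit 5]) (TL.leaf [nat_lit 86055, nat_lit 5, nat_lit 0, nat_lit 5, nat_lit 0, nat_lit 4, nat_lit 6, nat_lit 0, nat_lit 6, nat_lit 1, nat_lit 2, nat_lit 5, nat_lit 0, nat_lit 6, nat_lit 5, nat_lit 2, nat_lit 1, nat_lit 6, nat_lit 2, nat_lit 4, nat_lit 1, nat_lit 5, nat_lit 1, nat_lit 3, nat_lit 2]))) (TL.node (TL.node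 (TL.leaf [nat_lit 14345, nat_lit 4, nat_lit 1, nat_lit 4, nat_lit 1, nat_lit 4, nat_lit 0, nat_lit 4, nat_lit 0]) (TL.leaf [nat_lit 30729, nat_lit 0, nat_lit 5, nat_lit 0, nat_lit 2, nat_lit 0, nat_lit 4, nat_lit 5, nat_lit 4, nat_lit 1, nat_lit 2])) (TL.leaf [nat_lit 84000, nat_lit 1, nat_lit 2, nat_lit 4, nat_lit 6, nat_lit 1, nat_lit 4, nat_lit 2, nat_lit 0, nat_lit 6, nat_lit 1, nat_lit 6, nat_lit 2, nat_lit 5, nat_lit 0, nat_lit 4, nat_lit 0, nat_lit 5, nat_lit 4, nat_lit 1, nat_lit 5, nat_lit 3, nat_lit 0, nat_lit 4, nat_lit 0, nat_lit 3, nat_lit 6]))) (TL.node (TL.node (TL.node (TL.leaf [nat_lit 65576, nat_lit 3, nat_lit 0, nat_lit 5, nat_lit 0, nat_lit 6, nat_lit 3, nat_lit 0, nat_lit 4, nat_lit 1, nat_lit 2, nat_lit 5, nat_lit 0, nat_lit 4, nat_lit 0, nat_lit 5, nat_lit 0, nat_lit 4, nat_lit 1, nat_lit 3, nat_lit 6, nat_lit 1, nat_lit 2, nat_lit 5, nat_lit 0]) (TL.leaf [nat_lit 75806, nat_lit 6, nat_lit 1, nat_lit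 3, nat_lit 6, nat_lit 1, nat_lit 4, nat_lit 1, nat_lit 6, nat_lit 3, nat_lit 1, nat_lit 6, nat_lit 3, nat_lit 1, nat_lit 5, nat_lit 3, nat_lit 1, nat_lit 3, nat_lit 5, nat_lit 4, nat_lit 1, nat_lit 3, nat_lit 1, nat_lit 4, nat_lit 1, nat_lit 2])) (TL.node (TL.leaf [nat_lit 2049, nat_lit 2, nat_lit 0, nat_lit 2, nat_lit 0, nat_lit 2, nat_lit 1, nat_lit 2, nat_lit 1]) (TL.leaf [nat_lit 55299, nat_lit 1, nat_lit 2, nat_lit 1, nat_lit 6, nat_lit 0, nat_lit 2, nat_lit 1, nat_lit 6, nat_lit 0, nat_lit 2, nat_lit 1, nat_lit 6]))) (TL.node (TL.node (TL.leaf [nat_lit 6155, nat_lit 0, nat_lit 3, nat_lit 1, nat_lit 3, nat_lit 0, nat_lit 3, nat_lit 0, nat_lit 3]) (TL.leaf [nat_lit 32775, nat_lit 5, nat_lit 3, nat_lit 1, nat_lit 5, nat_lit 1, nat_lit 2, nat_lit 0, nat_lit 5, nat_lit 0, nat_lit 3])) (TL.leaf [nat_lit 38925, nat_lit 5, nat_lit 2, nat_lit 4, nat_lit 5, nat_lit 3, nat_lit 5, nat_lit 4, nat_lit 5, nat_lit 3])))) (TL.node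 (TL.node (TL.node (TL.node (TL.leaf [nat_lit 79875, nat_lit 3, nat_lit 6, nat_lit 3, nat_lit 5, nat_lit 3, nat_lit 6, nat_lit 3, nat_lit 5]) (TL.leaf [nat_lit 28679, nat_lit 2, nat_lit 0, nat_lit 5, nat_lit 1, nat_lit 2, nat_lit 1, nat_lit 3, nat_lit 5, nat_lit 3, nat_lit 0])) (TL.node (TL.leaf [nat_lit 43011, nat_lit 6, nat_lit 0, nat_lit 6, nat_lit 0, nat_lit 6, nat_lit 0, nat_lit 6, nat_lit 0]) (TL.leaf [nat_lit 69659, nat_lit 5, nat_lit 1, nat_lit 4, nat_lit 1, nat_lit 5, nat_lit 3, nat_lit 5, nat_lit 3, nat_lit 0, nat_lit 5, nat_lit 3, nat_lit 6, nat_lit 0, nat_lit 2, nat_lit 3, nat_lit 6, nat_lit 3, nat_lit 0, nat_lit 6, nat_lit 1, nat_lit 2, nat_lit 1, nat_lit 6, nat_lit 1]))) (TL.node (TL.node (TL.leaf [nat_lit 43009, nat_lit 1, nat_lit 6, nat_lit 0, nat_lit 6, nat_lit 0, nat_lit 6, nat_lit 0, nat_lit 6]) (TL.leaf [nat_lit 22529, nat_lit 4, nat_lit 0, nat_lit 3, nat_lit 4, nat_lit 0, nat_lit 4, nat_lit 3, nat_lit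 1, nat_lit 4, nat_lit 3, nat_lit 1, nat_lit 3])) (TL.leaf [nat_lit 53257, nat_lit 6, nat_lit 3, nat_lit 0, nat_lit 4, nat_lit 0, nat_lit 5, nat_lit 1, nat_lit 2, nat_lit 0, nat_lit 4, nat_lit 2, nat_lit 5, nat_lit 1, nat_lit 3, nat_lit 5, nat_lit 6, nat_lit 3, nat_lit 0, nat_lit 3]))) (TL.node (TL.node (TL.node (TL.leaf [nat_lit 77872, nat_lit 3, nat_lit 6, nat_lit 1, nat_lit 4, nat_lit 1, nat_lit 6, nat_lit 5, nat_lit 0, nat_lit 3, nat_lit 1, nat_lit 4, nat_lit 5, nat_lit 0, nat_lit 5, nat_lit 3, nat_lit 2, nat_lit 1, nat_lit 4, nat_lit 0, nat_lit 2, nat_lit 0, nat_lit 3, nat_lit 1, nat_lit 6, nat_lit 0, nat_lit 2, nat_lit 4, nat_lit 1, nat_lit 6]) (TL.leaf [nat_lit 88083, nat_lit 6, nat_lit 1, nat_lit 6, nat_lit 2, nat_lit 0, nat_lit 3, nat_lit 4, nat_lit 0, nat_lit 2, nat_lit 5, nat_lit 3, nat_lit 5, nat_lit 1, nat_lit 5, nat_lit 4, nat_lit 1, nat_lit 3, nat_lit 0, nat_lit 6, nat_lit 0, nat_lit 6, nat_lit 3, nat_lit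 6, nat_lit 1, nat_lit 4, nat_lit 5, nat_lit 0])) (TL.leaf [nat_lit 40981, nat_lit 3, nat_lit 1, nat_lit 4, nat_lit 0, nat_lit 2, nat_lit 4, nat_lit 0, nat_lit 3, nat_lit 4, nat_lit 2, nat_lit 1, nat_lit 4, nat_lit 0, nat_lit 5, nat_lit 0, nat_lit 2, nat_lit 3, nat_lit 4, nat_lit 1, nat_lit 3, nat_lit 1, nat_lit 5, nat_lit 0])) (TL.node (TL.node (TL.leaf [nat_lit 24579, nat_lit 5, nat_lit 2, nat_lit 5, nat_lit 2]) (TL.leaf [nat_lit 22545, nat_lit 4, nat_lit 3, nat_lit 1, nat_lit 3, nat_lit 4, nat_lit 0, nat_lit 3, nat_lit 4, nat_lit 0, nat_lit 4, nat_lit 3, nat_lit 1])) (TL.leaf [nat_lit 38929, nat_lit 4, nat_lit 5, nat_lit 3, nat_lit 5, nat_lit 4, nat_lit 5, nat_lit 3, nat_lit 5, nat_lit 2]))))))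
def W_t2 : TL := (TL.node (TL.node (TL.node (TL.node (TL.node (TL.node (TL.leaf [nat_lit 49153, nat_lit 4, nat_lit 6, nat_lit 4, nat_lit 6]) (TL.leaf [nat_lit 53282, nat_lit 0, nat_lit 3, nat_lit 6, nat_lit 5, nat_lit 3, nat_lit 0, nat_lit 5, nat_lit 2, nat_lit 4, nat_lit 1, nat_lit 2, nat_lit 0, nat_lit 5, nat_lit 1, nat_lit 4, nat_lit 1, nat_lit 3, nat_lit 6, nat_lit 3])) (TL.node (TL.leaf [nat_lit 2059, nat_lit 0, nat_lit 2, nat_lit 1, nat_lit 2, nat_lit 0, nat_lit 2, nat_lit 0, nat_lit 2]) (TL.leaf [nat_lit 77873, nat_lit 4, nat_lit 0, nat_lit 3, nat_lit 1, nat_lit 5, nat_lit 6, nat_lit 0, nat_lit 4, nat_lit 0, nat_lit 6, nat_lit 3, nat_lit 6, nat_lit 0, nat_lit 4, nat_lit 2, nat_lit 1, nat_lit 6, nat_lit 0, nat_lit 3, nat_lit 1, nat_lit 2, nat_lit 1, nat_lit 4, nat_lit 0, nat_lit 2, nat_lit 3, nat_lit 5, nat_lit 1, nat_lit 5]))) (TL.node (TL.node (TL.leaf [nat_lit 6147, nat_lit 1, nat_lit 3, nat_lit 0, nat_lit 3,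 nat_lit 1, nat_lit 3, nat_lit 1, nat_lit 3]) (TL.leaf [nat_lit 75781, nat_lit 3, nat_lit 6, nat_lit 0, nat_lit 4, nat_lit 0, nat_lit 6, nat_lit 3, nat_lit 0, nat_lit 6, nat_lit 2, nat_lit 0, nat_lit 4, nat_lit 0, nat_lit 3, nat_lit 0, nat_lit 4, nat_lit 5, nat_lit 3, nat_lit 0, nat_lit 3, nat_lit 5, nat_lit 0, nat_lit 3, nat_lit 6, nat_lit 0])) (TL.leaf [nat_lit 20497, nat_lit 4, nat_lit 1, nat_lit 3, nat_lit 1, nat_lit 2, nat_lit 0, nat_lit 3, nat_lit 0, nat_lit 4, nat_lit 0, nat_lit 3, nat_lit 0, nat_lit 2, nat_lit 1, nat_lit 3, nat_lit 1]))) (TL.node (TL.node (TL.node (TL.leaf [nat_lit 53253, nat_lit 1, nat_lit 3, nat_lit 6, nat_lit 3, nat_lit 0, nat_lit 4, nat_lit 0, nat_lit 5, nat_lit 1, nat_lit 2, nat_lit 0, nat_lit 4, nat_lit 2, nat_lit 5, nat_lit 1, nat_lit 3, nat_lit 5, nat_lit 6, nat_lit 3]) (TL.leaf [nat_lit 61445, nat_lit 6, nat_lit 3, nat_lit 0, nat_lit 3, nat_lit 6, nat_lit 0, nat_lit 6, nat_lit 2, nat_lit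 3, nat_lit 0, nat_lit 2, nat_lit 1, nat_lit 4, nat_lit 1, nat_lit 2, nat_lit 5, nat_lit 4, nat_lit 0, nat_lit 3, nat_lit 2, nat_lit 5, nat_lit 6, nat_lit 0])) (TL.node (TL.leaf [nat_lit 67609, nat_lit 2, nat_lit 1, nat_lit 4, nat_lit 5, nat_lit 6, nat_lit 3, nat_lit 6, nat_lit 0, nat_lit 2, nat_lit 0, nat_lit 6, nat_lit 3, nat_lit 6, nat_lit 2, nat_lit 5, nat_lit 1]) (TL.leaf [nat_lit 77834, nat_lit 4, nat_lit 5, nat_lit 0, nat_lit 5, nat_lit 3, nat_lit 2, nat_lit 1, nat_lit 4, nat_lit 0, nat_lit 2, nat_lit 0, nat_lit 3, nat_lit 1, nat_lit 6, nat_lit 0, nat_lit 2, nat_lit 4, nat_lit 1, nat_lit 6, nat_lit 3, nat_lit 6, nat_lit 1, nat_lit 4, nat_lit 1, nat_lit 6, nat_lit 5, nat_lit 0, nat_lit 3, nat_lit 1]))) (TL.node (TL.node (TL.leaf [nat_lit 34829, nat_lit 5, nat_lit 1, nat_lit 5, nat_lit 0, nat_lit 5, nat_lit 0, nat_lit 5, nat_lit 1]) (TL.leaf [nat_lit 75808, nat_lit 0, nat_lit 3, nat_lit 6, nat_lit 1, nat_lit 4, nat_lit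 1, nat_lit 6, nat_lit 3, nat_lit 1, nat_lit 6, nat_lit 3, nat_lit 1, nat_lit 5, nat_lit 3, nat_lit 1, nat_lit 3, nat_lit 5, nat_lit 4, nat_lit 1, nat_lit 3, nat_lit 1, nat_lit 4, nat_lit 1, nat_lit 2, nat_lit 6])) (TL.leaf [nat_lit 81929, nat_lit 3, nat_lit 0, nat_lit 3, nat_lit 6, nat_lit 5, nat_lit 4, nat_lit 1, nat_lit 6, nat_lit 4, nat_lit 5, nat_lit 3, nat_lit 1, nat_lit 3, nat_lit 5, nat_lit 6, nat_lit 0, nat_lit 5, nat_lit 6])))) (TL.node (TL.node (TL.node (TL.node (TL.leaf [nat_lit 47105, nat_lit 3, nat_lit 6, nat_lit 3, nat_lit 6, nat_lit 3, nat_lit 6, nat_lit 3, nat_lit 6]) (TL.leaf [nat_lit 41006, nat_lit 5, nat_lit 1, nat_lit 4, nat_lit 0, nat_lit 2, nat_lit 4, nat_lit 3, nat_lit 1, nat_lit 4, nat_lit 2, nat_lit 1, nat_lit 4, nat_lit 0, nat_lit 3, nat_lit 1, nat_lit 5, nat_lit 0, nat_lit 3, nat_lit 0, nat_lit 4, nat_lit 3, nat_lit 2, nat_lit 1])) (TL.node (TL.leaf [nat_lit 6145, nat_lit 3, nat_lit 0, nat_lit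 3, nat_lit 0, nat_lit 3, nat_lit 1, nat_lit 3, nat_lit 1]) (TL.leaf [nat_lit 22542, nat_lit 4, nat_lit 1, nat_lit 4, nat_lit 3, nat_lit 1, nat_lit 4, nat_lit 3, nat_lit 0, nat_lit 3, nat_lit 4, nat_lit 0, nat_lit 3]))) (TL.node (TL.node (TL.leaf [nat_lit 6153, nat_lit 3, nat_lit 1, nat_lit 3, nat_lit 1, nat_lit 3, nat_lit 0, nat_lit 3, nat_lit 0]) (TL.leaf [nat_lit 77831, nat_lit 1, nat_lit 6, nat_lit 3, nat_lit 6, nat_lit 0, nat_lit 4, nat_lit 2, nat_lit 1, nat_lit 6, nat_lit 0, nat_lit 3, nat_lit 1, nat_lit 2, nat_lit 1, nat_lit 4, nat_lit 0, nat_lit 2, nat_lit 3, nat_lit 5, nat_lit 1, nat_lit 5, nat_lit 4, nat_lit 0, nat_lit 3, nat_lit 1, nat_lit 5, nat_lit 6, nat_lit 0, nat_lit 4])) (TL.leaf [nat_lit 8193, nat_lit 3, nat_lit 0, nat_lit 2, nat_lit 0, nat_lit 3, nat_lit 0, nat_lit 2, nat_lit 0, nat_lit 3, nat_lit 0, nat_lit 2, nat_lit 0]))) (TL.node (TL.node (TL.node (TL.leaf [nat_lit 84010, nat_lit 4, nat_lit 2, nat_lit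 0, nat_lit 6, nat_lit 1, nat_lit 6, nat_lit 2, nat_lit 5, nat_lit 0, nat_lit 4, nat_lit 0, nat_lit 5, nat_lit 4, nat_lit 1, nat_lit 5, nat_lit 3, nat_lit 0, nat_lit 4, nat_lit 0, nat_lit 3, nat_lit 6, nat_lit 0, nat_lit 2, nat_lit 4, nat_lit 6, nat_lit 1]) (TL.leaf [nat_lit 40963, nat_lit 1, nat_lit 2, nat_lit 3, nat_lit 4, nat_lit 1, nat_lit 3, nat_lit 1, nat_lit 5, nat_lit 0, nat_lit 3, nat_lit 1, nat_lit 4, nat_lit 0, nat_lit 2, nat_lit 4, nat_lit 0, nat_lit 3, nat_lit 4, nat_lit 2, nat_lit 1, nat_lit 4, nat_lit 0, nat_lit 5])) (TL.leaf [nat_lit 36870, nat_lit 1, nat_lit 4, nat_lit 3, nat_lit 5, nat_lit 3, nat_lit 4, nat_lit 1, nat_lit 4, nat_lit 3, nat_lit 5, nat_lit 4, nat_lit 3])) (TL.node (TL.node (TL.leaf [nat_lit 45059, nat_lit 6, nat_lit 2, nat_lit 6, nat_lit 2]) (TL.leaf [nat_lit 81923, nat_lit 1, nat_lit 5, nat_lit 6, nat_lit 3, nat_lit 0, nat_lit 3, nat_lit 6, nat_lit 5, nat_lit 4, nat_lit 1, nat_lit 6, nat_lit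 4, nat_lit 5, nat_lit 3, nat_lit 1, nat_lit 3, nat_lit 5, nat_lit 6])) (TL.leaf [nat_lit 81954, nat_lit 0, nat_lit 6, nat_lit 5, nat_lit 3, nat_lit 0, nat_lit 3, nat_lit 5, nat_lit 4, nat_lit 6, nat_lit 0, nat_lit 4, nat_lit 5, nat_lit 6, nat_lit 3, nat_lit 1, nat_lit 3, nat_lit 6, nat_lit 5]))))) (TL.node (TL.node (TL.node (TL.node (TL.node (TL.leaf [nat_lit 24577, nat_lit 2, nat_lit 5, nat_lit 2, nat_lit 5]) (TL.leaf [nat_lit 88067, nat_lit 1, nat_lit 6, nat_lit 3, nat_lit 6, nat_lit 1, nat_lit 4, nat_lit 5, nat_lit 0, nat_lit 6, nat_lit 1, nat_lit 6, nat_lit 2, nat_lit 0, nat_lit 3, nat_lit 4, nat_lit 0, nat_lit 2, nat_lit 5, nat_lit 3, nat_lit 5, nat_lit 1, nat_lit 5, nat_lit 4, nat_lit 1, nat_lit 3, nat_lit 0, nat_lit 6])) (TL.node (TL.leaf [nat_lit 36877, nat_lit 5, nat_lit 3, nat_lit 4, nat_lit 1, nat_lit 3, nat_lit 4, nat_lit 5, nat_lit 3, nat_lit 4, nat_lit 0, nat_lit 4, nat_lit 3]) (TL.leaf [nat_lit 86058, nat_lit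 1, nat_lit 6, nat_lit 1, nat_lit 6, nat_lit 4, nat_lit 1, nat_lit 5, nat_lit 1, nat_lit 5, nat_lit 2, nat_lit 3, nat_lit 0, nat_lit 5, nat_lit 0, nat_lit 4, nat_lit 2, nat_lit 6, nat_lit 0, nat_lit 2, nat_lit 5, nat_lit 6, nat_lit 1, nat_lit 5, nat_lit 2]))) (TL.node (TL.node (TL.leaf [nat_lit 2053, nat_lit 2, nat_lit 0, nat_lit 2, nat_lit 1, nat_lit 2, nat_lit 1, nat_lit 2, nat_lit 0]) (TL.leaf [nat_lit 38919, nat_lit 4, nat_lit 5, nat_lit 3, nat_lit 5, nat_lit 2, nat_lit 4, nat_lit 5, nat_lit 3, nat_lit 5])) (TL.leaf [nat_lit 14351, nat_lit 0, nat_lit 4, nat_lit 0, nat_lit 4, nat_lit 0, nat_lit 4, nat_lit 1, nat_lit 4]))) (TL.node (TL.node (TL.node (TL.leaf [nat_lit 86054, nat_lit 5, nat_lit 2, nat_lit 0, nat_lit 6, nat_lit 1, nat_lit 6, nat_lit 4, nat_lit 1, nat_lit 5, nat_lit 1, nat_lit 5, nat_lit 2, nat_lit 3, nat_lit 0, nat_lit 5, nat_lit 0, nat_lit 4, nat_lit 2, nat_lit 6, nat_lit 0, nat_lit 2, nat_lit 5, nat_lit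 6, nat_lit 1]) (TL.leaf [nat_lit 88065, nat_lit 6, nat_lit 0, nat_lit 6, nat_lit 3, nat_lit 6, nat_lit 1, nat_lit 4, nat_lit 5, nat_lit 0, nat_lit 6, nat_lit 1, nat_lit 6, nat_lit 2, nat_lit 0, nat_lit 3, nat_lit 4, nat_lit 0, nat_lit 2, nat_lit 5, nat_lit 3, nat_lit 5, nat_lit 1, nat_lit 5, nat_lit 4, nat_lit 1, nat_lit 3, nat_lit 0])) (TL.node (TL.leaf [nat_lit 14343, nat_lit 1, nat_lit 4, nat_lit 1, nat_lit 4, nat_lit 1, nat_lit 4, nat_lit 0, nat_lit 4]) (TL.leaf [nat_lit 34831, nat_lit 0, nat_lit 5, nat_lit 0, nat_lit 5, nat_lit 0, nat_lit 5, nat_lit 1, nat_lit 5]))) (TL.node (TL.node (TL.leaf [nat_lit 30731, nat_lit 5, nat_lit 0, nat_lit 2, nat_lit 0, nat_lit 4, nat_lit 5, nat_lit 4, nat_lit 1, nat_lit 2, nat_lit 1]) (TL.leaf [nat_lit 63503, nat_lit 2, nat_lit 0, nat_lit 6, nat_lit 1, nat_lit 2, nat_lit 0, nat_lit 4, nat_lit 0, nat_lit 5, nat_lit 3, nat_lit 0, nat_lit 6, nat_lit 1, nat_lit 3, nat_lit 5, nat_lit 1,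 nat_lit 4, nat_lit 1])) (TL.leaf [nat_lit 22547, nat_lit 3, nat_lit 1, nat_lit 3, nat_lit 4, nat_lit 0, nat_lit 3, nat_lit 4, nat_lit 0, nat_lit 4, nat_lit 3, nat_lit 1, nat_lit 4])))) (TL.node (TL.node (TL.node (TL.node (TL.leaf [nat_lit 57369, nat_lit 0, nat_lit 4, nat_lit 2, nat_lit 1, nat_lit 6, nat_lit 0, nat_lit 2, nat_lit 4, nat_lit 0, nat_lit 5, nat_lit 3, nat_lit 1, nat_lit 6, nat_lit 0, nat_lit 3, nat_lit 5]) (TL.leaf [nat_lit 75822, nat_lit 3, nat_lit 1, nat_lit 6, nat_lit 3, nat_lit 1, nat_lit 5, nat_lit 3, nat_lit 1, nat_lit 3, nat_lit 5, nat_lit 4, nat_lit 1, nat_lit 3, nat_lit 1, nat_lit 4, nat_lit 1, nat_lit 2, nat_lit 6, nat_lit 1, nat_lit 3, nat_lit 6, nat_lit 1, nat_lit 4, nat_lit 1, nat_lit 6])) (TL.node (TL.leaf [nat_lit 32769, nat_lit 5, nat_lit 0, nat_lit 3, nat_lit 5, nat_lit 3, nat_lit 1, nat_lit 5, nat_lit 1, nat_lit 2, nat_lit 0]) (TL.leaf [nat_lit 30735, nat_lit 2, nat_lit 0, nat_lit 4, nat_lit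 5, nat_lit 4, nat_lit 1, nat_lit 2, nat_lit 1, nat_lit 5, nat_lit 0]))) (TL.node (TL.node (TL.leaf [nat_lit 14347, nat_lit 0, nat_lit 4, nat_lit 1, nat_lit 4, nat_lit 0, nat_lit 4, nat_lit 0, nat_lit 4]) (TL.leaf [nat_lit 67597, nat_lit 6, nat_lit 3, nat_lit 6, nat_lit 2, nat_lit 5, nat_lit 1, nat_lit 2, nat_lit 1, nat_lit 4, nat_lit 5, nat_lit 6, nat_lit 3, nat_lit 6, nat_lit 0, nat_lit 2, nat_lit 0])) (TL.leaf [nat_lit 77878, nat_lit 4, nat_lit 1, nat_lit 6, nat_lit 5, nat_lit 0, nat_lit 3, nat_lit 1, nat_lit 4, nat_lit 5, nat_lit 0, nat_lit 5, nat_lit 3, nat_lit 2, nat_lit 1, nat_lit 4, nat_lit 0, nat_lit 2, nat_lit 0, nat_lit 3, nat_lit 1, nat_lit 6, nat_lit 0, nat_lit 2, nat_lit 4, nat_lit 1, nat_lit 6, nat_lit 3, nat_lit 6, nat_lit 1]))) (TL.node (TL.node (TL.node (TL.leaf [nat_lit 12291, nat_lit 4, nat_lit 3, nat_lit 4, nat_lit 3]) (TL.leaf [nat_lit 36883, nat_lit 0, nat_lit 3, nat_lit 4, nat_lit 5, nat_lit 3,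 nat_lit 4, nat_lit 0, nat_lit 4, nat_lit 3, nat_lit 5, nat_lit 3, nat_lit 4])) (TL.leaf [nat_lit 30721, nat_lit 5, nat_lit 4, nat_lit 1, nat_lit 2, nat_lit 1, nat_lit 5, nat_lit 0, nat_lit 2, nat_lit 0, nat_lit 4])) (TL.node (TL.node (TL.leaf [nat_lit 34817, nat_lit 5, nat_lit 0, nat_lit 5, nat_lit 0, nat_lit 5, nat_lit 1, nat_lit 5, nat_lit 1]) (TL.leaf [nat_lit 28689, nat_lit 0, nat_lit 3, nat_lit 5, nat_lit 3, nat_lit 0, nat_lit 2, nat_lit 0, nat_lit 5, nat_lit 1, nat_lit 2])) (TL.leaf [nat_lit 30727, nat_lit 2, nat_lit 1, nat_lit 5, nat_lit 0, nat_lit 2, nat_lit 0, nat_lit 4, nat_lit 5, nat_lit 4, nat_lit 1]))))))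
def W_t3 : TL := (TL.node W_t1 W_t2)
def W_t4 : TL := (TL.node (TL.node (TL.node (TL.node (TL.node (TL.node (TL.leaf [nat_lit 45057, nat_lit 2, nat_lit 6, nat_lit 2, nat_lit 6]) (TL.leaf [nat_lit 53255, nat_lit 3, nat_lit 6, nat_lit 3, nat_lit 0, nat_lit 4, nat_lit 0, nat_lit 5, nat_lit 1, nat_lit 2, nat_lit 0, nat_lit 4, nat_lit 2, nat_lit 5, nat_lit 1, nat_lit 3, nat_lit 5, nat_lit 6, nat_lit 3, nat_lit 0])) (TL.node (TL.leaf [nat_lit 47107, nat_lit 6, nat_lit 3, nat_lit 6, nat_lit 3, nat_lit 6, nat_lit 3, nat_lit 6, nat_lit 3]) (TL.leaf [nat_lit 77827, nat_lit 1, nat_lit 4, nat_lit 0, nat_lit 6, nat_lit 3, nat_lit 6, nat_lit 0, nat_lit 4, nat_lit 2, nat_lit 1, nat_lit 6, nat_lit 0, nat_lit 3, nat_lit 1, nat_lit 2, nat_lit 1, nat_lit 4, nat_lit 0, nat_lit 2, nat_lit 3, nat_lit 5, nat_lit 1, nat_lit 5, nat_lit 4, nat_lit 0, nat_lit 3, nat_lit 1, nat_lit 5, nat_lit 6]))) (TL.node (TL.node (TL.leaf [nat_lit 6151, nat_lit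 1, nat_lit 3, nat_lit 1, nat_lit 3, nat_lit 1, nat_lit 3, nat_lit 0, nat_lit 3]) (TL.leaf [nat_lit 69646, nat_lit 5, nat_lit 0, nat_lit 4, nat_lit 0, nat_lit 5, nat_lit 0, nat_lit 6, nat_lit 0, nat_lit 2, nat_lit 0, nat_lit 6, nat_lit 1, nat_lit 3, nat_lit 6, nat_lit 3, nat_lit 2, nat_lit 1, nat_lit 6, nat_lit 3, nat_lit 5, nat_lit 1, nat_lit 3, nat_lit 5, nat_lit 3])) (TL.leaf [nat_lit 8197, nat_lit 2, nat_lit 0, nat_lit 3, nat_lit 0, nat_lit 2, nat_lit 0, nat_lit 3, nat_lit 0, nat_lit 2, nat_lit 0, nat_lit 3, nat_lit 0]))) (TL.node (TL.node (TL.node (TL.leaf [nat_lit 81946, nat_lit 0, nat_lit 3, nat_lit 6, nat_lit 5, nat_lit 1, nat_lit 6, nat_lit 5, nat_lit 3, nat_lit 0, nat_lit 3, nat_lit 5, nat_lit 4, nat_lit 6, nat_lit 0, nat_lit 4, nat_lit 5, nat_lit 6, nat_lit 3]) (TL.leaf [nat_lit 41001, nat_lit 0, nat_lit 4, nat_lit 0, nat_lit 5, nat_lit 0, nat_lit 2, nat_lit 3, nat_lit 4, nat_lit 1, nat_lit 3, nat_lit 1, nat_lit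 5, nat_lit 0, nat_lit 3, nat_lit 1, nat_lit 4, nat_lit 0, nat_lit 2, nat_lit 4, nat_lit 0, nat_lit 3, nat_lit 4, nat_lit 2])) (TL.node (TL.leaf [nat_lit 57345, nat_lit 6, nat_lit 0, nat_lit 2, nat_lit 4, nat_lit 0, nat_lit 5, nat_lit 3, nat_lit 1, nat_lit 6, nat_lit 0, nat_lit 3, nat_lit 5, nat_lit 1, nat_lit 4, nat_lit 2, nat_lit 1]) (TL.leaf [nat_lit 67586, nat_lit 5, nat_lit 4, nat_lit 0, nat_lit 2, nat_lit 0, nat_lit 5, nat_lit 2, nat_lit 6, nat_lit 3, nat_lit 6, nat_lit 1, nat_lit 2, nat_lit 1, nat_lit 6, nat_lit 3, nat_lit 6]))) (TL.node (TL.node (TL.leaf [nat_lit 2061, nat_lit 2, nat_lit 1, nat_lit 2, nat_lit 0, nat_lit 2, nat_lit 0, nat_lit 2, nat_lit 1]) (TL.leaf [nat_lit 67596, nat_lit 5, nat_lit 2, nat_lit 6, nat_lit 3, nat_lit 6, nat_lit 1, nat_lit 2, nat_lit 1, nat_lit 6, nat_lit 3, nat_lit 6, nat_lit 5, nat_lit 4, nat_lit 0, nat_lit 2, nat_lit 0])) (TL.leaf [nat_lit 79877, nat_lit 6, nat_lit 3, nat_lit 5,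 nat_lit 3, nat_lit 6, nat_lit 3, nat_lit 5, nat_lit 3])))) (TL.node (TL.node (TL.node (TL.node (TL.leaf [nat_lit 43012, nat_lit 0, nat_lit 6, nat_lit 1, nat_lit 6, nat_lit 1, nat_lit 6, nat_lit 1, nat_lit 6]) (TL.leaf [nat_lit 53251, nat_lit 3, nat_lit 0, nat_lit 3, nat_lit 6, nat_lit 3, nat_lit 0, nat_lit 4, nat_lit 0, nat_lit 5, nat_lit 1, nat_lit 2, nat_lit 0, nat_lit 4, nat_lit 2, nat_lit 5, nat_lit 1, nat_lit 3, nat_lit 5, nat_lit 6])) (TL.node (TL.leaf [nat_lit 16401, nat_lit 4, nat_lit 0, nat_lit 2, nat_lit 0, nat_lit 2, nat_lit 3, nat_lit 1, nat_lit 2, nat_lit 1, nat_lit 4, nat_lit 0, nat_lit 2, nat_lit 0, nat_lit 3, nat_lit 1, nat_lit 2, nat_lit 1]) (TL.leaf [nat_lit 86021, nat_lit 6, nat_lit 1, nat_lit 2, nat_lit 5, nat_lit 0, nat_lit 6, nat_lit 5, nat_lit 2, nat_lit 1, nat_lit 6, nat_lit 2, nat_lit 4, nat_lit 1, nat_lit 5, nat_lit 1, nat_lit 3, nat_lit 2, nat_lit 5, nat_lit 0, nat_lit 5, nat_lit 0, nat_lit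 4, nat_lit 6, nat_lit 0]))) (TL.node (TL.node (TL.leaf [nat_lit 43010, nat_lit 6, nat_lit 1, nat_lit 6, nat_lit 1, nat_lit 6, nat_lit 1, nat_lit 6, nat_lit 1]) (TL.leaf [nat_lit 59399, nat_lit 1, nat_lit 3, nat_lit 1, nat_lit 5, nat_lit 1, nat_lit 6, nat_lit 0, nat_lit 5, nat_lit 0, nat_lit 3, nat_lit 1, nat_lit 5, nat_lit 1, nat_lit 6, nat_lit 0, nat_lit 5])) (TL.leaf [nat_lit 18436, nat_lit 2, nat_lit 1, nat_lit 4, nat_lit 1, nat_lit 2, nat_lit 1, nat_lit 4, nat_lit 1, nat_lit 2, nat_lit 1, nat_lit 4, nat_lit 1]))) (TL.node (TL.node (TL.node (TL.leaf [nat_lit 73770, nat_lit 0, nat_lit 6, nat_lit 5, nat_lit 2, nat_lit 1, nat_lit 6, nat_lit 5, nat_lit 4, nat_lit 2, nat_lit 0, nat_lit 3, nat_lit 1, nat_lit 5, nat_lit 3, nat_lit 5, nat_lit 2, nat_lit 0, nat_lit 3, nat_lit 1, nat_lit 4, nat_lit 1, nat_lit 6, nat_lit 1, nat_lit 2, nat_lit 5, nat_lit 6]) (TL.leaf [nat_lit 57355, nat_lit 5, nat_lit 3, nat_lit 1, nat_lit 6,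 nat_lit 0, nat_lit 3, nat_lit 5, nat_lit 1, nat_lit 4, nat_lit 2, nat_lit 1, nat_lit 6, nat_lit 0, nat_lit 2, nat_lit 4, nat_lit 0])) (TL.leaf [nat_lit 18437, nat_lit 2, nat_lit 0, nat_lit 4, nat_lit 0, nat_lit 2, nat_lit 0, nat_lit 4, nat_lit 0, nat_lit 2, nat_lit 0, nat_lit 4, nat_lit 0])) (TL.node (TL.node (TL.leaf [nat_lit 81951, nat_lit 0, nat_lit 3, nat_lit 5, nat_lit 6, nat_lit 0, nat_lit 5, nat_lit 6, nat_lit 3, nat_lit 0, nat_lit 3, nat_lit 6, nat_lit 5, nat_lit 4, nat_lit 1, nat_lit 6, nat_lit 4, nat_lit 5, nat_lit 3]) (TL.leaf [nat_lit 83999, nat_lit 0, nat_lit 3, nat_lit 5, nat_lit 0, nat_lit 4, nat_lit 5, nat_lit 1, nat_lit 4, nat_lit 1, nat_lit 5, nat_lit 2, nat_lit 6, nat_lit 0, nat_lit 6, nat_lit 1, nat_lit 2, nat_lit 4, nat_lit 0, nat_lit 6, nat_lit 4, nat_lit 2, nat_lit 1, nat_lit 6, nat_lit 3, nat_lit 1, nat_lit 4])) (TL.leaf [nat_lit 63489, nat_lit 6, nat_lit 1, nat_lit 3, nat_lit 5, nat_lit 1, nat_lit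 4, nat_lit 1, nat_lit 2, nat_lit 0, nat_lit 6, nat_lit 1, nat_lit 2, nat_lit 0, nat_lit 4, nat_lit 0, nat_lit 5, nat_lit 3, nat_lit 0]))))) (TL.node (TL.node (TL.node (TL.node (TL.node (TL.leaf [nat_lit 10241, nat_lit 2, nat_lit 4, nat_lit 2, nat_lit 4]) (TL.leaf [nat_lit 83977, nat_lit 2, nat_lit 4, nat_lit 0, nat_lit 6, nat_lit 4, nat_lit 2, nat_lit 1, nat_lit 6, nat_lit 3, nat_lit 1, nat_lit 4, nat_lit 1, nat_lit 3, nat_lit 5, nat_lit 0, nat_lit 4, nat_lit 5, nat_lit 1, nat_lit 4, nat_lit 1, nat_lit 5, nat_lit 2, nat_lit 6, nat_lit 0, nat_lit 6, nat_lit 1])) (TL.node (TL.leaf [nat_lit 22543, nat_lit 0, nat_lit 4, nat_lit 3, nat_lit 1, nat_lit 3, nat_lit 4, nat_lit 0, nat_lit 3, nat_lit 4, nat_lit 0, nat_lit 4, nat_lit 3]) (TL.leaf [nat_lit 75779, nat_lit 1, nat_lit 3, nat_lit 6, nat_lit 0, nat_lit 4, nat_lit 0, nat_lit 6, nat_lit 3, nat_lit 0, nat_lit 6, nat_lit 2, nat_lit 0, nat_lit 4, nat_lit 0, nat_lit 3, nat_lit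 0, nat_lit 4, nat_lit 5, nat_lit 3, nat_lit 0, nat_lit 3, nat_lit 5, nat_lit 0, nat_lit 3, nat_lit 6]))) (TL.node (TL.node (TL.leaf [nat_lit 34825, nat_lit 5, nat_lit 1, nat_lit 5, nat_lit 1, nat_lit 5, nat_lit 0, nat_lit 5, nat_lit 0]) (TL.leaf [nat_lit 53279, nat_lit 5, nat_lit 1, nat_lit 3, nat_lit 5, nat_lit 6, nat_lit 3, nat_lit 0, nat_lit 3, nat_lit 6, nat_lit 3, nat_lit 0, nat_lit 4, nat_lit 0, nat_lit 5, nat_lit 1, nat_lit 2, nat_lit 0, nat_lit 4, nat_lit 2])) (TL.leaf [nat_lit 26625, nat_lit 3, nat_lit 5, nat_lit 3, nat_lit 5, nat_lit 3, nat_lit 5, nat_lit 3, nat_lit 5]))) (TL.node (TL.node (TL.node (TL.leaf [nat_lit 69670, nat_lit 3, nat_lit 6, nat_lit 3, nat_lit 2, nat_lit 1, nat_lit 6, nat_lit 3, nat_lit 5, nat_lit 1, nat_lit 3, nat_lit 5, nat_lit 3, nat_lit 5, nat_lit 0, nat_lit 4, nat_lit 0, nat_lit 5, nat_lit 0, nat_lit 6, nat_lit 0, nat_lit 2, nat_lit 0, nat_lit 6, nat_lit 1]) (TL.leaf [nat_lit 84009,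 nat_lit 5, nat_lit 1, nat_lit 4, nat_lit 1, nat_lit 5, nat_lit 2, nat_lit 6, nat_lit 0, nat_lit 6, nat_lit 1, nat_lit 2, nat_lit 4, nat_lit 0, nat_lit 6, nat_lit 4, nat_lit 2, nat_lit 1, nat_lit 6, nat_lit 3, nat_lit 1, nat_lit 4, nat_lit 1, nat_lit 3, nat_lit 5, nat_lit 0, nat_lit 4])) (TL.node (TL.leaf [nat_lit 14337, nat_lit 4, nat_lit 0, nat_lit 4, nat_lit 0, nat_lit 4, nat_lit 1, nat_lit 4, nat_lit 1]) (TL.leaf [nat_lit 75820, nat_lit 6, nat_lit 3, nat_lit 1, nat_lit 6, nat_lit 3, nat_lit 1, nat_lit 5, nat_lit 3, nat_lit 1, nat_lit 3, nat_lit 5, nat_lit 4, nat_lit 1, nat_lit 3, nat_lit 1, nat_lit 4, nat_lit 1, nat_lit 2, nat_lit 6, nat_lit 1, nat_lit 3, nat_lit 6, nat_lit 1, nat_lit 4, nat_lit 1]))) (TL.node (TL.node (TL.leaf [nat_lit 28683, nat_lit 5, nat_lit 1, nat_lit 2, nat_lit 1, nat_lit 3, nat_lit 5, nat_lit 3, nat_lit 0, nat_lit 2, nat_lit 0]) (TL.leaf [nat_lit 59405, nat_lit 5, nat_lit 1, nat_lit 6, nat_lit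 0, nat_lit 5, nat_lit 0, nat_lit 3, nat_lit 1, nat_lit 5, nat_lit 1, nat_lit 6, nat_lit 0, nat_lit 5, nat_lit 0, nat_lit 3, nat_lit 1])) (TL.leaf [nat_lit 32783, nat_lit 0, nat_lit 2, nat_lit 0, nat_lit 5, nat_lit 0, nat_lit 3, nat_lit 5, nat_lit 3, nat_lit 1, nat_lit 5])))) (TL.node (TL.node (TL.node (TL.node (TL.leaf [nat_lit 55297, nat_lit 6, nat_lit 0, nat_lit 2, nat_lit 1, nat_lit 6, nat_lit 0, nat_lit 2, nat_lit 1, nat_lit 6, nat_lit 0, nat_lit 2, nat_lit 1]) (TL.leaf [nat_lit 61453, nat_lit 6, nat_lit 0, nat_lit 6, nat_lit 2, nat_lit 3, nat_lit 0, nat_lit 2, nat_lit 1, nat_lit 4, nat_lit 1, nat_lit 2, nat_lit 5, nat_lit 4, nat_lit 0, nat_lit 3, nat_lit 2, nat_lit 5, nat_lit 6, nat_lit 0, nat_lit 6, nat_lit 3, nat_lit 0, nat_lit 3])) (TL.node (TL.leaf [nat_lit 30739, nat_lit 4, nat_lit 5, nat_lit 4, nat_lit 1, nat_lit 2, nat_lit 1, nat_lit 5, nat_lit 0, nat_lit 2, nat_lit 0]) (TL.leaf [nat_lit 88071, nat_lit 3,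 nat_lit 6, nat_lit 1, nat_lit 4, nat_lit 5, nat_lit 0, nat_lit 6, nat_lit 1, nat_lit 6, nat_lit 2, nat_lit 0, nat_lit 3, nat_lit 4, nat_lit 0, nat_lit 2, nat_lit 5, nat_lit 3, nat_lit 5, nat_lit 1, nat_lit 5, nat_lit 4, nat_lit 1, nat_lit 3, nat_lit 0, nat_lit 6, nat_lit 0, nat_lit 6]))) (TL.node (TL.node (TL.leaf [nat_lit 6149, nat_lit 3, nat_lit 0, nat_lit 3, nat_lit 1, nat_lit 3, nat_lit 1, nat_lit 3, nat_lit 0]) (TL.leaf [nat_lit 20481, nat_lit 4, nat_lit 0, nat_lit 3, nat_lit 0, nat_lit 2, nat_lit 1, nat_lit 3, nat_lit 1, nat_lit 4, nat_lit 1, nat_lit 3, nat_lit 1, nat_lit 2, nat_lit 0, nat_lit 3, nat_lit 0])) (TL.leaf [nat_lit 86044, nat_lit 1, nat_lit 2, nat_lit 5, nat_lit 6, nat_lit 1, nat_lit 5, nat_lit 2, nat_lit 0, nat_lit 6, nat_lit 1, nat_lit 6, nat_lit 4, nat_lit 1, nat_lit 5, nat_lit 1, nat_lit 5, nat_lit 2, nat_lit 3, nat_lit 0, nat_lit 5, nat_lit 0, nat_lit 4, nat_lit 2, nat_lit 6]))) (TL.node (TL.node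 (TL.node (TL.leaf [nat_lit 1, nat_lit 1, nat_lit 0, nat_lit 0]) (TL.leaf [nat_lit 77866, nat_lit 4, nat_lit 1, nat_lit 6, nat_lit 3, nat_lit 6, nat_lit 1, nat_lit 4, nat_lit 1, nat_lit 6, nat_lit 5, nat_lit 0, nat_lit 3, nat_lit 1, nat_lit 4, nat_lit 5, nat_lit 0, nat_lit 5, nat_lit 3, nat_lit 2, nat_lit 1, nat_lit 4, nat_lit 0, nat_lit 2, nat_lit 0, nat_lit 3, nat_lit 1, nat_lit 6, nat_lit 0, nat_lit 2])) (TL.leaf [nat_lit 38921, nat_lit 5, nat_lit 3, nat_lit 5, nat_lit 2, nat_lit 4, nat_lit 5, nat_lit 3, nat_lit 5, nat_lit 4])) (TL.node (TL.node (TL.leaf [nat_lit 34819, nat_lit 1, nat_lit 5, nat_lit 0, nat_lit 5, nat_lit 1, nat_lit 5, nat_lit 1, nat_lit 5]) (TL.leaf [nat_lit 65557, nat_lit 3, nat_lit 0, nat_lit 4, nat_lit 1, nat_lit 5, nat_lit 1, nat_lit 4, nat_lit 1, nat_lit 5, nat_lit 2, nat_lit 0, nat_lit 4, nat_lit 1, nat_lit 3, nat_lit 6, nat_lit 1, nat_lit 5, nat_lit 1, nat_lit 3, nat_lit 1, nat_lit 5, nat_lit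 2, nat_lit 0, nat_lit 6])) (TL.leaf [nat_lit 28687, nat_lit 2, nat_lit 1, nat_lit 3, nat_lit 5, nat_lit 3, nat_lit 0, nat_lit 2, nat_lit 0, nat_lit 5, nat_lit 1]))))))
def W_t5 : TL := (TL.node (TL.node (TL.node (TL.node (TL.node (TL.node (TL.leaf [nat_lit 51201, nat_lit 5, nat_lit 6, nat_lit 5, nat_lit 6]) (TL.leaf [nat_lit 53284, nat_lit 3, nat_lit 6, nat_lit 5, nat_lit 3, nat_lit 0, nat_lit 5, nat_lit 2, nat_lit 4, nat_lit 1, nat_lit 2, nat_lit 0, nat_lit 5, nat_lit 1, nat_lit 4, nat_lit 1, nat_lit 3, nat_lit 6, nat_lit 3, nat_lit 1])) (TL.node (TL.leaf [nat_lit 28673, nat_lit 5, nat_lit 3, nat_lit 0, nat_lit 2, nat_lit 0, nat_lit 5, nat_lit 1, nat_lit 2, nat_lit 1, nat_lit 3]) (TL.leaf [nat_lit 63499, nat_lit 4, nat_lit 1, nat_lit 2, nat_lit 0, nat_lit 6, nat_lit 1, nat_lit 2, nat_lit 0, nat_lit 4, nat_lit 0, nat_lit 5, nat_lit 3, nat_lit 0, nat_lit 6, nat_lit 1, nat_lit 3, nat_lit 5, nat_lit 1]))) (TL.node (TL.node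 (TL.leaf [nat_lit 2057, nat_lit 2, nat_lit 1, nat_lit 2, nat_lit 1, nat_lit 2, nat_lit 0, nat_lit 2, nat_lit 0]) (TL.leaf [nat_lit 73759, nat_lit 0, nat_lit 2, nat_lit 5, nat_lit 3, nat_lit 5, nat_lit 0, nat_lit 3, nat_lit 1, nat_lit 2, nat_lit 4, nat_lit 5, nat_lit 6, nat_lit 0, nat_lit 2, nat_lit 5, nat_lit 6, nat_lit 0, nat_lit 6, nat_lit 5, nat_lit 2, nat_lit 0, nat_lit 6, nat_lit 0, nat_lit 4, nat_lit 0, nat_lit 3])) (TL.leaf [nat_lit 63507, nat_lit 6, nat_lit 1, nat_lit 2, nat_lit 0, nat_lit 4, nat_lit 0, nat_lit 5, nat_lit 3, nat_lit 0, nat_lit 6, nat_lit 1, nat_lit 3, nat_lit 5, nat_lit 1, nat_lit 4, nat_lit 1, nat_lit 2, nat_lit 0]))) (TL.node (TL.node (TL.node (TL.leaf [nat_lit 61478, nat_lit 0, nat_lit 3, nat_lit 6, nat_lit 1, nat_lit 6, nat_lit 5, nat_lit 2, nat_lit 3, nat_lit 1, nat_lit 4, nat_lit 5, nat_lit 2, nat_lit 0, nat_lit 4, nat_lit 0, nat_lit 2, nat_lit 1, nat_lit 3, nat_lit 2, nat_lit 6, nat_lit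 1, nat_lit 6, nat_lit 3]) (TL.leaf [nat_lit 86027, nat_lit 5, nat_lit 0, nat_lit 6, nat_lit 5, nat_lit 2, nat_lit 1, nat_lit 6, nat_lit 2, nat_lit 4, nat_lit 1, nat_lit 5, nat_lit 1, nat_lit 3, nat_lit 2, nat_lit 5, nat_lit 0, nat_lit 5, nat_lit 0, nat_lit 4, nat_lit 6, nat_lit 0, nat_lit 6, nat_lit 1, nat_lit 2])) (TL.node (TL.leaf [nat_lit 4099, nat_lit 3, nat_lit 2, nat_lit 3, nat_lit 2]) (TL.leaf [nat_lit 28691, nat_lit 3, nat_lit 5, nat_lit 3, nat_lit 0, nat_lit 2, nat_lit 0, nat_lit 5, nat_lit 1, nat_lit 2, nat_lit 1]))) (TL.node (TL.node (TL.leaf [nat_lit 14339, nat_lit 1, nat_lit 4, nat_lit 0, nat_lit 4, nat_lit 1, nat_lit 4, nat_lit 1, nat_lit 4]) (TL.leaf [nat_lit 32779, nat_lit 0, nat_lit 5, nat_lit 1, nat_lit 2, nat_lit 0, nat_lit 5, nat_lit 0, nat_lit 3, nat_lit 5, nat_lit 3])) (TL.leaf [nat_lit 53280, nat_lit 3, nat_lit 1, nat_lit 3, nat_lit 6, nat_lit 5, nat_lit 3, nat_lit 0, nat_lit 5, nat_lit 2, nat_lit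 4, nat_lit 1, nat_lit 2, nat_lit 0, nat_lit 5, nat_lit 1, nat_lit 4, nat_lit 1, nat_lit 3, nat_lit 6])))) (TL.node (TL.node (TL.node (TL.node (TL.leaf [nat_lit 79879, nat_lit 3, nat_lit 5, nat_lit 3, nat_lit 6, nat_lit 3, nat_lit 5, nat_lit 3, nat_lit 6]) (TL.leaf [nat_lit 86062, nat_lit 0, nat_lit 6, nat_lit 4, nat_lit 1, nat_lit 5, nat_lit 1, nat_lit 5, nat_lit 2, nat_lit 3, nat_lit 0, nat_lit 5, nat_lit 0, nat_lit 4, nat_lit 2, nat_lit 6, nat_lit 0, nat_lit 2, nat_lit 5, nat_lit 6, nat_lit 1, nat_lit 5, nat_lit 2, nat_lit 0, nat_lit 6])) (TL.node (TL.leaf [nat_lit 26627, nat_lit 5, nat_lit 3, nat_lit 5, nat_lit 3, nat_lit 5, nat_lit 3, nat_lit 5, nat_lit 3]) (TL.leaf [nat_lit 41003, nat_lit 4, nat_lit 0, nat_lit 5, nat_lit 0, nat_lit 2, nat_lit 3, nat_lit 4, nat_lit 1, nat_lit 3, nat_lit 1, nat_lit 5, nat_lit 0, nat_lit 3, nat_lit 1, nat_lit 4, nat_lit 0, nat_lit 2, nat_lit 4, nat_lit 0, nat_lit 3, nat_lit 4, nat_lit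 2, nat_lit 1]))) (TL.node (TL.node (TL.leaf [nat_lit 6157, nat_lit 3, nat_lit 1, nat_lit 3, nat_lit 0, nat_lit 3, nat_lit 0, nat_lit 3, nat_lit 1]) (TL.leaf [nat_lit 32773, nat_lit 3, nat_lit 5, nat_lit 3, nat_lit 1, nat_lit 5, nat_lit 1, nat_lit 2, nat_lit 0, nat_lit 5, nat_lit 0])) (TL.leaf [nat_lit 67614, nat_lit 3, nat_lit 6, nat_lit 5, nat_lit 4, nat_lit 0, nat_lit 2, nat_lit 0, nat_lit 5, nat_lit 2, nat_lit 6, nat_lit 3, nat_lit 6, nat_lit 1, nat_lit 2, nat_lit 1, nat_lit 6]))) (TL.node (TL.node (TL.node (TL.leaf [nat_lit 88108, nat_lit 1, nat_lit 6, nat_lit 3, nat_lit 6, nat_lit 1, nat_lit 6, nat_lit 1, nat_lit 3, nat_lit 0, nat_lit 4, nat_lit 5, nat_lit 0, nat_lit 5, nat_lit 3, nat_lit 5, nat_lit 2, nat_lit 1, nat_lit 4, nat_lit 3, nat_lit 1, nat_lit 2, nat_lit 6, nat_lit 0, nat_lit 6, nat_lit 1, nat_lit 5, nat_lit 4]) (TL.leaf [nat_lit 75810, nat_lit 3, nat_lit 6, nat_lit 1, nat_lit 4, nat_lit 1, nat_lit 6, nat_lit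 3, nat_lit 1, nat_lit 6, nat_lit 3, nat_lit 1, nat_lit 5, nat_lit 3, nat_lit 1, nat_lit 3, nat_lit 5, nat_lit 4, nat_lit 1, nat_lit 3, nat_lit 1, nat_lit 4, nat_lit 1, nat_lit 2, nat_lit 6, nat_lit 1])) (TL.leaf [nat_lit 57361, nat_lit 6, nat_lit 0, nat_lit 3, nat_lit 5, nat_lit 1, nat_lit 4, nat_lit 2, nat_lit 1, nat_lit 6, nat_lit 0, nat_lit 2, nat_lit 4, nat_lit 0, nat_lit 5, nat_lit 3, nat_lit 1])) (TL.node (TL.node (TL.leaf [nat_lit 10243, nat_lit 4, nat_lit 2, nat_lit 4, nat_lit 2]) (TL.leaf [nat_lit 69662, nat_lit 2, nat_lit 0, nat_lit 6, nat_lit 1, nat_lit 3, nat_lit 6, nat_lit 3, nat_lit 2, nat_lit 1, nat_lit 6, nat_lit 3, nat_lit 5, nat_lit 1, nat_lit 3, nat_lit 5, nat_lit 3, nat_lit 5, nat_lit 0, nat_lit 4, nat_lit 0, nat_lit 5, nat_lit 0, nat_lit 6, nat_lit 0])) (TL.leaf [nat_lit 81933, nat_lit 3, nat_lit 6, nat_lit 5, nat_lit 4, nat_lit 1, nat_lit 6, nat_lit 4, nat_lit 5, nat_lit 3, nat_lit 1, nat_lit 3,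 nat_lit 5, nat_lit 6, nat_lit 0, nat_lit 5, nat_lit 6, nat_lit 3, nat_lit 0]))))) (TL.node (TL.node (TL.node (TL.node (TL.node (TL.leaf [nat_lit 12289, nat_lit 3, nat_lit 4, nat_lit 3, nat_lit 4]) (TL.leaf [nat_lit 32787, nat_lit 1, nat_lit 5, nat_lit 0, nat_lit 3, nat_lit 5, nat_lit 3, nat_lit 1, nat_lit 5, nat_lit 1, nat_lit 2])) (TL.node (TL.leaf [nat_lit 8200, nat_lit 3, nat_lit 1, nat_lit 2, nat_lit 1, nat_lit 3, nat_lit 1, nat_lit 2, nat_lit 1, nat_lit 3, nat_lit 1, nat_lit 2, nat_lit 1]) (TL.leaf [nat_lit 53275, nat_lit 4, nat_lit 2, nat_lit 5, nat_lit 1, nat_lit 3, nat_lit 5, nat_lit 6, nat_lit 3, nat_lit 0, nat_lit 3, nat_lit 6, nat_lit 3, nat_lit 0, nat_lit 4, nat_lit 0, nat_lit 5, nat_lit 1, nat_lit 2, nat_lit 0]))) (TL.node (TL.node (TL.leaf [nat_lit 14341, nat_lit 4, nat_lit 0, nat_lit 4, nat_lit 1, nat_lit 4, nat_lit 1, nat_lit 4, nat_lit 0]) (TL.leaf [nat_lit 81928, nat_lit 3, nat_lit 5, nat_lit 4, nat_lit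 6, nat_lit 0, nat_lit 4, nat_lit 5, nat_lit 6, nat_lit 3, nat_lit 1, nat_lit 3, nat_lit 6, nat_lit 5, nat_lit 1, nat_lit 6, nat_lit 5, nat_lit 3, nat_lit 0])) (TL.leaf [nat_lit 38917, nat_lit 5, nat_lit 4, nat_lit 5, nat_lit 3, nat_lit 5, nat_lit 2, nat_lit 4, nat_lit 5, nat_lit 3]))) (TL.node (TL.node (TL.node (TL.leaf [nat_lit 71720, nat_lit 0, nat_lit 6, nat_lit 4, nat_lit 2, nat_lit 1, nat_lit 6, nat_lit 1, nat_lit 3, nat_lit 0, nat_lit 4, nat_lit 5, nat_lit 3, nat_lit 0, nat_lit 3, nat_lit 5, nat_lit 0, nat_lit 3, nat_lit 0, nat_lit 2, nat_lit 0, nat_lit 6, nat_lit 1, nat_lit 2, nat_lit 4, nat_lit 6]) (TL.leaf [nat_lit 77835, nat_lit 3, nat_lit 6, nat_lit 0, nat_lit 4, nat_lit 2, nat_lit 1, nat_lit 6, nat_lit 0, nat_lit 3, nat_lit 1, nat_lit 2, nat_lit 1, nat_lit 4, nat_lit 0, nat_lit 2, nat_lit 3, nat_lit 5, nat_lit 1, nat_lit 5, nat_lit 4, nat_lit 0, nat_lit 3, nat_lit 1, nat_lit 5, nat_lit 6, nat_lit 0, nat_lit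 4, nat_lit 0, nat_lit 6])) (TL.node (TL.leaf [nat_lit 34823, nat_lit 1, nat_lit 5, nat_lit 1, nat_lit 5, nat_lit 1, nat_lit 5, nat_lit 0, nat_lit 5]) (TL.leaf [nat_lit 65584, nat_lit 6, nat_lit 3, nat_lit 0, nat_lit 4, nat_lit 1, nat_lit 2, nat_lit 5, nat_lit 0, nat_lit 4, nat_lit 0, nat_lit 5, nat_lit 0, nat_lit 4, nat_lit 1, nat_lit 3, nat_lit 6, nat_lit 1, nat_lit 2, nat_lit 5, nat_lit 0, nat_lit 3, nat_lit 0, nat_lit 5, nat_lit 0]))) (TL.node (TL.node (TL.leaf [nat_lit 32785, nat_lit 2, nat_lit 0, nat_lit 5, nat_lit 0, nat_lit 3, nat_lit 5, nat_lit 3, nat_lit 1, nat_lit 5, nat_lit 1]) (TL.leaf [nat_lit 67613, nat_lit 4, nat_lit 5, nat_lit 6, nat_lit 3, nat_lit 6, nat_lit 0, nat_lit 2, nat_lit 0, nat_lit 6, nat_lit 3, nat_lit 6, nat_lit 2, nat_lit 5, nat_lit 1, nat_lit 2, nat_lit 1])) (TL.leaf [nat_lit 22548, nat_lit 3, nat_lit 1, nat_lit 4, nat_lit 3, nat_lit 0, nat_lit 3, nat_lit 4, nat_lit 0, nat_lit 3, nat_lit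 4, nat_lit 1, nat_lit 4])))) (TL.node (TL.node (TL.node (TL.node (TL.leaf [nat_lit 59401, nat_lit 3, nat_lit 1, nat_lit 5, nat_lit 1, nat_lit 6, nat_lit 0, nat_lit 5, nat_lit 0, nat_lit 3, nat_lit 1, nat_lit 5, nat_lit 1, nat_lit 6, nat_lit 0, nat_lit 5, nat_lit 0]) (TL.leaf [nat_lit 28681, nat_lit 1, nat_lit 5, nat_lit 1, nat_lit 2, nat_lit 1, nat_lit 3, nat_lit 5, nat_lit 3, nat_lit 0, nat_lit 2])) (TL.node (TL.leaf [nat_lit 18433, nat_lit 4, nat_lit 0, nat_lit 2, nat_lit 0, nat_lit 4, nat_lit 0, nat_lit 2, nat_lit 0, nat_lit 4, nat_lit 0, nat_lit 2, nat_lit 0]) (TL.leaf [nat_lit 40987, nat_lit 1, nat_lit 2, nat_lit 4, nat_lit 0, nat_lit 3, nat_lit 4, nat_lit 2, nat_lit 1, nat_lit 4, nat_lit 0, nat_lit 5, nat_lit 0, nat_lit 2, nat_lit 3, nat_lit 4, nat_lit 1, nat_lit 3, nat_lit 1, nat_lit 5, nat_lit 0, nat_lit 3, nat_lit 1, nat_lit 4]))) (TL.node (TL.node (TL.leaf [nat_lit 34827, nat_lit 0, nat_lit 5, nat_lit 1, nat_lit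 5, nat_lit 0, nat_lit 5, nat_lit 0, nat_lit 5]) (TL.leaf [nat_lit 32777, nat_lit 3, nat_lit 1, nat_lit 5, nat_lit 1, nat_lit 2, nat_lit 0, nat_lit 5, nat_lit 0, nat_lit 3, nat_lit 5])) (TL.leaf [nat_lit 2055, nat_lit 1, nat_lit 2, nat_lit 1, nat_lit 2, nat_lit 1, nat_lit 2, nat_lit 0, nat_lit 2]))) (TL.node (TL.node (TL.node (TL.leaf [nat_lit 49155, nat_lit 6, nat_lit 4, nat_lit 6, nat_lit 4]) (TL.leaf [nat_lit 57347, nat_lit 1, nat_lit 2, nat_lit 4, nat_lit 0, nat_lit 5, nat_lit 3, nat_lit 1, nat_lit 6, nat_lit 0, nat_lit 3, nat_lit 5, nat_lit 1, nat_lit 4, nat_lit 2, nat_lit 1, nat_lit 6])) (TL.leaf [nat_lit 55301, nat_lit 2, nat_lit 1, nat_lit 6, nat_lit 0, nat_lit 2, nat_lit 1, nat_lit 6, nat_lit 0, nat_lit 2, nat_lit 1, nat_lit 6, nat_lit 0])) (TL.node (TL.node (TL.leaf [nat_lit 6159, nat_lit 0, nat_lit 3, nat_lit 0, nat_lit 3, nat_lit 0, nat_lit 3, nat_lit 1, nat_lit 3]) (TL.leaf [nat_lit 67607, nat_lit 0, nat_lit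 2, nat_lit 1, nat_lit 4, nat_lit 5, nat_lit 6, nat_lit 3, nat_lit 6, nat_lit 0, nat_lit 2, nat_lit 0, nat_lit 6, nat_lit 3, nat_lit 6, nat_lit 2, nat_lit 5])) (TL.leaf [nat_lit 22549, nat_lit 0, nat_lit 3, nat_lit 4, nat_lit 0, nat_lit 3, nat_lit 4, nat_lit 0, nat_lit 4, nat_lit 3, nat_lit 1, nat_lit 4, nat_lit 3]))))))
def W_t6 : TL := (TL.node W_t4 W_t5)
def W_t : TL := (TL.node W_t3 W_t6)
noncomputable def W (i : ℕ) : List ℕ := TL.get W_t i
def WA_t : TL := (TL.leaf [nat_lit 0])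
noncomputable def WA (i : ℕ) : List ℕ := TL.get WA_t i
noncomputable def row : ℕ → ℕ := hRow (nat_lit 671) (nat_lit 7) (nat_lit 6) (nat_lit 1024) (nat_lit 256) (nat_lit 262144) (nat_lit 16384) (nat_lit 16384) (nat_lit 0) E X Pa inv (wfun (nat_lit 217) W_t)
noncomputable def aux : ℕ → ℕ := hAux (nat_lit 672) (nat_lit 7) (nat_lit 1024) (nat_lit 262144) (nat_lit 16384) (nat_lit 2) (nat_lit 2) (nat_lit 16384) (nat_lit 0) E X J Pa inv WA_t.get
theorem r0 : Nat.beq (rng row (nat_lit 0) (nat_lit 672)) (nat_lit 0) = true := by decide +kernel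
theorem rows : ∀ i < 672, row i = 0 := by
  have h := zero_lt_zero row
  have h := zero_lt_add (a := (nat_lit 0)) (n := (nat_lit 672)) (b := (nat_lit 672)) h r0 rfl
  exact h
theorem auxs : ∀ i < 0, aux i = 0 := by
  have h := zero_lt_zero aux
  exact h
theorem closes.{u} : ClosesT.{u} inv rels 7 6 672 T :=
  hc_closes (N1 := (nat_lit 671)) rfl T_eq (by decide +kernel) rows auxs
theorem T_inv : ∀ c < 672, ∀ j < 7, T j c < 672 ∧ T (inv j) (T j c) = c := 
  hc_inv (inv := inv) (N1 := (nat_lit 671)) rfl T_eq rows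
end L6

def rels : List (List ℕ) := [[nat_lit 0, nat_lit 0, nat_lit 0], [nat_lit 2, nat_lit 0, nat_lit 2, nat_lit 0, nat_lit 2, nat_lit 1, nat_lit 2, nat_lit 1], [nat_lit 2, nat_lit 3, nat_lit 2, nat_lit 3], [nat_lit 3, nat_lit 0, nat_lit 3, nat_lit 0, nat_lit 3, nat_lit 1, nat_lit 3, nat_lit 1], [nat_lit 3, nat_lit 0, nat_lit 2, nat_lit 0, nat_lit 3, nat_lit 0, nat_lit 2, nat_lit 0, nat_lit 3, nat_lit 0, nat_lit 2, nat_lit 0], [nat_lit 2, nat_lit 4, nat_lit 2, nat_lit 4], [nat_lit 3, nat_lit 4, nat_lit 3, nat_lit 4], [nat_lit 4, nat_lit 0, nat_lit 4, nat_lit 0, nat_lit 4, nat_lit 1, nat_lit 4, nat_lit 1], [nat_lit 4, nat_lit 0, nat_lit 2, nat_lit 0, nat_lit 3, nat_lit 1, nat_lit 2, nat_lit 1, nat_lit 4, nat_lit 0, nat_lit 2, nat_lit 0, nat_lit 2, nat_lit 3, nat_lit 1, nat_lit 2, nat_lit 1], [nat_lit 4, nat_lit 0, nat_lit 2, nat_lit 0, nat_lit 4, nat_lit 0, nat_lit 2, nat_lit 0, nat_lit 4, nat_lit 0, nat_lit 2, nat_lit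 0], [nat_lit 4, nat_lit 0, nat_lit 3, nat_lit 0, nat_lit 2, nat_lit 1, nat_lit 3, nat_lit 1, nat_lit 4, nat_lit 1, nat_lit 3, nat_lit 1, nat_lit 2, nat_lit 0, nat_lit 3, nat_lit 0], [nat_lit 4, nat_lit 0, nat_lit 3, nat_lit 4, nat_lit 0, nat_lit 4, nat_lit 3, nat_lit 1, nat_lit 4, nat_lit 3, nat_lit 1, nat_lit 3], [nat_lit 2, nat_lit 5, nat_lit 2, nat_lit 5], [nat_lit 3, nat_lit 5, nat_lit 3, nat_lit 5, nat_lit 3, nat_lit 5, nat_lit 3, nat_lit 5], [nat_lit 5, nat_lit 3, nat_lit 0, nat_lit 2, nat_lit 0, nat_lit 5, nat_lit 1, nat_lit 2, nat_lit 1, nat_lit 3], [nat_lit 5, nat_lit 4, nat_lit 1, nat_lit 2, nat_lit 1, nat_lit 5, nat_lit 0, nat_lit 2, nat_lit 0, nat_lit 4], [nat_lit 5, nat_lit 0, nat_lit 3, nat_lit 5, nat_lit 3, nat_lit 1, nat_lit 5, nat_lit 1, nat_lit 2, nat_lit 0], [nat_lit 5, nat_lit 0, nat_lit 5, nat_lit 0, nat_lit 5, nat_lit 1, nat_lit 5, nat_lit 1], [nat_lit 5, nat_lit 3, nat_lit 4, nat_lit 0, nat_lit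 4, nat_lit 3, nat_lit 5, nat_lit 3, nat_lit 4, nat_lit 1, nat_lit 3, nat_lit 4], [nat_lit 5, nat_lit 3, nat_lit 5, nat_lit 4, nat_lit 5, nat_lit 3, nat_lit 5, nat_lit 2, nat_lit 4], [nat_lit 5, nat_lit 0, nat_lit 2, nat_lit 3, nat_lit 4, nat_lit 1, nat_lit 3, nat_lit 1, nat_lit 5, nat_lit 0, nat_lit 3, nat_lit 1, nat_lit 4, nat_lit 0, nat_lit 2, nat_lit 4, nat_lit 0, nat_lit 3, nat_lit 4, nat_lit 2, nat_lit 1, nat_lit 4, nat_lit 0], [nat_lit 0, nat_lit 6, nat_lit 0, nat_lit 6, nat_lit 0, nat_lit 6, nat_lit 0, nat_lit 6], [nat_lit 2, nat_lit 6, nat_lit 2, nat_lit 6], [nat_lit 3, nat_lit 6, nat_lit 3, nat_lit 6, nat_lit 3, nat_lit 6, nat_lit 3, nat_lit 6], [nat_lit 4, nat_lit 6, nat_lit 4, nat_lit 6], [nat_lit 5, nat_lit 6, nat_lit 5, nat_lit 6], [nat_lit 6, nat_lit 3, nat_lit 0, nat_lit 3, nat_lit 6, nat_lit 3, nat_lit 0, nat_lit 4, nat_lit 0, nat_lit 5, nat_lit 1, nat_lit 2, nat_lit 0, nat_lit 4, nat_lit 2, nat_lit 5,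 nat_lit 1, nat_lit 3, nat_lit 5], [nat_lit 6, nat_lit 0, nat_lit 2, nat_lit 1, nat_lit 6, nat_lit 0, nat_lit 2, nat_lit 1, nat_lit 6, nat_lit 0, nat_lit 2, nat_lit 1], [nat_lit 6, nat_lit 0, nat_lit 2, nat_lit 4, nat_lit 0, nat_lit 5, nat_lit 3, nat_lit 1, nat_lit 6, nat_lit 0, nat_lit 3, nat_lit 5, nat_lit 1, nat_lit 4, nat_lit 2, nat_lit 1], [nat_lit 6, nat_lit 0, nat_lit 5, nat_lit 0, nat_lit 3, nat_lit 1, nat_lit 5, nat_lit 1, nat_lit 6, nat_lit 0, nat_lit 5, nat_lit 0, nat_lit 3, nat_lit 1, nat_lit 5, nat_lit 1], [nat_lit 6, nat_lit 0, nat_lit 6, nat_lit 3, nat_lit 0, nat_lit 3, nat_lit 6, nat_lit 0, nat_lit 6, nat_lit 2, nat_lit 3, nat_lit 0, nat_lit 2, nat_lit 1, nat_lit 4, nat_lit 1, nat_lit 2, nat_lit 5, nat_lit 4, nat_lit 0, nat_lit 3, nat_lit 2, nat_lit 5], [nat_lit 6, nat_lit 1, nat_lit 3, nat_lit 5, nat_lit 1, nat_lit 4, nat_lit 1, nat_lit 2, nat_lit 0, nat_lit 6, nat_lit 1, nat_lit 2, nat_lit 0, nat_lit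 4, nat_lit 0, nat_lit 5, nat_lit 3, nat_lit 0], [nat_lit 6, nat_lit 1, nat_lit 5, nat_lit 1, nat_lit 3, nat_lit 1, nat_lit 5, nat_lit 2, nat_lit 0, nat_lit 6, nat_lit 3, nat_lit 0, nat_lit 4, nat_lit 1, nat_lit 5, nat_lit 1, nat_lit 4, nat_lit 1, nat_lit 5, nat_lit 2, nat_lit 0, nat_lit 4, nat_lit 1, nat_lit 3], [nat_lit 6, nat_lit 3, nat_lit 6, nat_lit 0, nat_lit 2, nat_lit 0, nat_lit 6, nat_lit 3, nat_lit 6, nat_lit 2, nat_lit 5, nat_lit 1, nat_lit 2, nat_lit 1, nat_lit 4, nat_lit 5], [nat_lit 6, nat_lit 0, nat_lit 2, nat_lit 3, nat_lit 6, nat_lit 3, nat_lit 0, nat_lit 6, nat_lit 1, nat_lit 2, nat_lit 1, nat_lit 6, nat_lit 1, nat_lit 5, nat_lit 1, nat_lit 4, nat_lit 1, nat_lit 5, nat_lit 3, nat_lit 5, nat_lit 3, nat_lit 0, nat_lit 5, nat_lit 3], [nat_lit 6, nat_lit 0, nat_lit 2, nat_lit 4, nat_lit 6, nat_lit 0, nat_lit 6, nat_lit 4, nat_lit 2, nat_lit 0, nat_lit 6, nat_lit 1, nat_lit 2, nat_lit 1, nat_lit 3, nat_lit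 1, nat_lit 5, nat_lit 3, nat_lit 1, nat_lit 3, nat_lit 5, nat_lit 4, nat_lit 1, nat_lit 3, nat_lit 0], [nat_lit 6, nat_lit 0, nat_lit 2, nat_lit 5, nat_lit 6, nat_lit 0, nat_lit 6, nat_lit 5, nat_lit 2, nat_lit 0, nat_lit 6, nat_lit 0, nat_lit 4, nat_lit 0, nat_lit 3, nat_lit 1, nat_lit 2, nat_lit 5, nat_lit 3, nat_lit 5, nat_lit 0, nat_lit 3, nat_lit 1, nat_lit 2, nat_lit 4, nat_lit 5], [nat_lit 6, nat_lit 0, nat_lit 3, nat_lit 6, nat_lit 0, nat_lit 4, nat_lit 0, nat_lit 6, nat_lit 3, nat_lit 0, nat_lit 6, nat_lit 2, nat_lit 0, nat_lit 4, nat_lit 0, nat_lit 3, nat_lit 0, nat_lit 4, nat_lit 5, nat_lit 3, nat_lit 0, nat_lit 3, nat_lit 5, nat_lit 0, nat_lit 3], [nat_lit 6, nat_lit 0, nat_lit 4, nat_lit 0, nat_lit 6, nat_lit 3, nat_lit 6, nat_lit 0, nat_lit 4, nat_lit 2, nat_lit 1, nat_lit 6, nat_lit 0, nat_lit 3, nat_lit 1, nat_lit 2, nat_lit 1, nat_lit 4, nat_lit 0, nat_lit 2, nat_lit 3, nat_lit 5, nat_lit 1, nat_lit 5,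 nat_lit 4, nat_lit 0, nat_lit 3, nat_lit 1, nat_lit 5], [nat_lit 5, nat_lit 3, nat_lit 6, nat_lit 3, nat_lit 5, nat_lit 3, nat_lit 6, nat_lit 3], [nat_lit 6, nat_lit 0, nat_lit 5, nat_lit 6, nat_lit 3, nat_lit 0, nat_lit 3, nat_lit 6, nat_lit 5, nat_lit 4, nat_lit 1, nat_lit 6, nat_lit 4, nat_lit 5, nat_lit 3, nat_lit 1, nat_lit 3, nat_lit 5], [nat_lit 6, nat_lit 0, nat_lit 6, nat_lit 1, nat_lit 2, nat_lit 4, nat_lit 0, nat_lit 6, nat_lit 4, nat_lit 2, nat_lit 1, nat_lit 6, nat_lit 3, nat_lit 1, nat_lit 4, nat_lit 1, nat_lit 3, nat_lit 5, nat_lit 0, nat_lit 4, nat_lit 5, nat_lit 1, nat_lit 4, nat_lit 1, nat_lit 5, nat_lit 2], [nat_lit 6, nat_lit 0, nat_lit 6, nat_lit 1, nat_lit 2, nat_lit 5, nat_lit 0, nat_lit 6, nat_lit 5, nat_lit 2, nat_lit 1, nat_lit 6, nat_lit 2, nat_lit 4, nat_lit 1, nat_lit 5, nat_lit 1, nat_lit 3, nat_lit 2, nat_lit 5, nat_lit 0, nat_lit 5, nat_lit 0, nat_lit 4], [nat_lit 6, nat_lit 0, nat_lit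 6, nat_lit 3, nat_lit 6, nat_lit 1, nat_lit 4, nat_lit 5, nat_lit 0, nat_lit 6, nat_lit 1, nat_lit 6, nat_lit 2, nat_lit 0, nat_lit 3, nat_lit 4, nat_lit 0, nat_lit 2, nat_lit 5, nat_lit 3, nat_lit 5, nat_lit 1, nat_lit 5, nat_lit 4, nat_lit 1, nat_lit 3, nat_lit 0]]
def inv (i : ℕ) : ℕ := Nat.land (Nat.shiftRight (nat_lit 0x1ac681) (Nat.mul (nat_lit 3) i)) (nat_lit 7)
theorem ub2 {Γ : Type} [Group Γ] {g : ℕ → Γ} (h1 : InvOK g inv 7) (h2 : ∀ w ∈ rels, ev g w = 1) : CardLE (gen g 2) 3 :=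
  tw h1 h2 L1.closes (by decide +kernel) (cardLE_gen_zero g)
theorem ub3 {Γ : Type} [Group Γ] {g : ℕ → Γ} (h1 : InvOK g inv 7) (h2 : ∀ w ∈ rels, ev g w = 1) : CardLE (gen g 3) 18 :=
  tw h1 h2 L2.closes (by decide +kernel) (ub2 h1 h2)
theorem ub4 {Γ : Type} [Group Γ] {g : ℕ → Γ} (h1 : InvOK g inv 7) (h2 : ∀ w ∈ rels, ev g w = 1) : CardLE (gen g 4) 576 :=
  tw h1 h2 L3.closes (by decide +kernel) (ub3 h1 h2)
theorem ub5 {Γ : Type} [Group Γ] {g : ℕ → Γ} (h1 : InvOK g inv 7) (h2 : ∀ w ∈ rels, ev g w = 1) : CardLE (gen g 5) 77760 :=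
  tw h1 h2 L4.closes (by decide +kernel) (ub4 h1 h2)
theorem ub6 {Γ : Type} [Group Γ] {g : ℕ → Γ} (h1 : InvOK g inv 7) (h2 : ∀ w ∈ rels, ev g w = 1) : CardLE (gen g 6) 13685760 :=
  tw h1 h2 L5.closes (by decide +kernel) (ub5 h1 h2)
theorem ub7 {Γ : Type} [Group Γ] {g : ℕ → Γ} (h1 : InvOK g inv 7) (h2 : ∀ w ∈ rels, ev g w = 1) : CardLE (gen g 7) 9196830720 :=
  tw h1 h2 L6.closes (by decide +kernel) (ub6 h1 h2)

end Cfsg.Agent.Ct.U62
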