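import Cfsg.Agent.Lib.Cert.U62.M
import Cfsg.Agent.Lib.Cert.Lin3
import Cfsg.Agent.S0280

set_option autoImplicit false
set_option maxRecDepth 100000

namespace Cfsg.Agent.Ct.U62

open Cfsg.Agent.PC

open Cfsg.Agent.Fi Cfsg.Agent.Ct
def Ct1 : TN := (TN.node (TN.node (TN.node (TN.node (TN.leaf (nat_lit 0x100000001)) (TN.leaf (nat_lit 0x10000000000000001000000010000000100000000000000000000000000000000000000000000000000000000))) (TN.node (TN.leaf (nat_lit 0x100000000000000000000000100000000000000000000000000000000000000010000000000000000)) (TN.leaf (nat_lit 0x100000000)))) (TN.node (TN.node (TN.leaf (nat_lit 0x1000000010000000000000000000000000000000100000001000000000000000000000000)) (TN.leaf (nat_lit 0x100000000000000000000000100000001000000010000000100000001000000000000000100000001))) (TN.node (TN.leaf (nat_lit 1)) (TN.leaf (nat_lit 0x10000000100000000000000000000000000000000))))) (TN.node (TN.node (TN.node (TN.leaf (nat_lit 0x10000000000000000000000010000000000000001000000000000000000000000)) (TN.leaf (nat_lit 0x10000000000000001000000000000000000000001000000000000000100000001000000010000000000000000)))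 (TN.node (TN.leaf (nat_lit 0x100000000000000010000000100000000000000000000000100000000000000010000000000000000)) (TN.leaf (nat_lit 0x1000000000000000000000000000000000000000000000000000000000000000000000000)))) (TN.node (TN.node (TN.leaf (nat_lit 1)) (TN.leaf (nat_lit 0x100000000000000000000000000000000))) (TN.leaf (nat_lit 0x100000000000000000000000000000001000000000000000000000001000000010000000000000000)))))
def Ct2 : TN := (TN.node (TN.node (TN.node (TN.node (TN.leaf (nat_lit 0x10000000000000000000000000000000100000001000000010000000000000000)) (TN.leaf (nat_lit 0x10000000100000000000000000000000100000001000000010000000000000000000000000000000000000000))) (TN.node (TN.leaf (nat_lit 1)) (TN.leaf (nat_lit 0x10000000000000000000000000000000000000000)))) (TN.node (TN.node (TN.leaf (nat_lit 0x10000000000000000000000000000000100000000000000010000000000000000)) (TN.leaf (nat_lit 1))) (TN.node (TN.leaf (nat_lit 0x100000000000000000000000000000000)) (TN.leaf (nat_lit 0x1000000010000000000000000000000000000000000000000000000000000000000000000)))))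 (TN.node (TN.node (TN.node (TN.leaf (nat_lit 0x100000000)) (TN.leaf (nat_lit 0x10000000000000001000000000000000000000001000000000000000000000001000000010000000000000001))) (TN.node (TN.leaf (nat_lit 0x10000000100000000000000000000000000000000000000000000000100000001000000000000000000000000)) (TN.leaf (nat_lit 0x100000001)))) (TN.node (TN.node (TN.leaf (nat_lit 0x100000000000000000000000000000000)) (TN.leaf (nat_lit 0x10000000000000000000000000000000000000000000000000000000000000000))) (TN.leaf (nat_lit 1)))))
def Ct3 : TN := (TN.node Ct1 Ct2)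
def Ct4 : TN := (TN.node (TN.node (TN.node (TN.node (TN.leaf (nat_lit 0x10000000000000000000000010000000100000000000000010000000000000000)) (TN.leaf (nat_lit 0x100000001000000000000000000000000000000010000000100000000000000000000000000000000))) (TN.node (TN.leaf (nat_lit 0x10000000100000000000000000000000000000000000000010000000000000000)) (TN.leaf (nat_lit 0x1000000000000000000000000)))) (TN.node (TN.node (TN.leaf (nat_lit 0x100000001000000000000000000000000000000000000000000000000)) (TN.leaf (nat_lit 0x10000000100000001000000010000000100000001000000000000000100000001))) (TN.node (TN.leaf (nat_lit 0x10000000000000001000000000000000000000000000000000000000000000000000000010000000000000000)) (TN.leaf (nat_lit 0x100000001000000000000000000000000000000000000000000000000))))) (TN.node (TN.node (TN.node (TN.leaf (nat_lit 0x10000000000000000000000000000000000000000000000000000000000000000000000000000000000000000)) (TN.leaf (nat_lit 0x10000000100000001000000010000000100000000000000010000000000000000000000000000000100000000)))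 (TN.node (TN.leaf (nat_lit 0x100000000000000000000000000000000000000010000000100000001000000000000000000000000)) (TN.leaf (nat_lit 0x10000000000000000000000000000000000000000000000000000000000000000000000000000000000000000)))) (TN.node (TN.node (TN.leaf (nat_lit 0x100000000000000010000000100000000000000000000000000000000000000000000000000000000)) (TN.leaf (nat_lit 0x1000000000000000000000000000000000000000000000000))) (TN.leaf (nat_lit 0x10000000000000001000000000000000000000001000000010000000000000000)))))
def Ct5 : TN := (TN.node (TN.node (TN.node (TN.node (TN.leaf (nat_lit 0x100000000000000000000000000000000000000000000000000000000)) (TN.leaf (nat_lit 0x1000000000000000000000001000000010000000100000000000000000000000000000000))) (TN.node (TN.leaf (nat_lit 0x100000001000000010000000100000001000000000000000100000000000000010000000000000000)) (TN.leaf (nat_lit 0x100000000000000000000000000000000000000000000000000000000)))) (TN.node (TN.node (TN.leaf (nat_lit 0x10000000100000000000000000000000000000000000000000000000000000000000000000000000000000000))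 (TN.leaf (nat_lit 0x10000000000000000))) (TN.node (TN.leaf (nat_lit 0x100000000000000010000000000000001000000000000000000000000000000000000000000000000)) (TN.leaf (nat_lit 0x10000000100000000000000000000000000000000000000000000000000000000000000000000000000000000))))) (TN.node (TN.node (TN.node (TN.leaf (nat_lit 0x1000000010000000000000000000000010000000000000000000000010000000000000000)) (TN.leaf (nat_lit 0x10000000000000001000000000000000000000000000000000000000100000001000000010000000000000001))) (TN.node (TN.leaf (nat_lit 0x100000001000000000000000000000001000000000000000100000000000000010000000000000000)) (TN.leaf (nat_lit 0x1000000010000000000000000)))) (TN.node (TN.node (TN.leaf (nat_lit 0x10000000100000001000000010000000000000000000000000000000000000001000000010000000000000000)) (TN.leaf (nat_lit 0x100000000000000000000000000000000000000000000000000000000000000000000000000000000))) (TN.leaf (nat_lit 0x10000000000000000)))))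
def Ct6 : TN := (TN.node Ct4 Ct5)
def Ct7 : TN := (TN.node Ct3 Ct6)
def Ct8 : TN := (TN.node (TN.node (TN.node (TN.node (TN.leaf (nat_lit 1)) (TN.leaf (nat_lit 0x10000000100000000000000010000000100000001000000000000000000000000000000000000000000000000))) (TN.node (TN.leaf (nat_lit 0x10000000000000000000000000000000100000001000000000000000000000001000000000000000000000000)) (TN.leaf (nat_lit 0x100000001)))) (TN.node (TN.node (TN.leaf (nat_lit 0x10000000000000000000000010000000000000001000000010000000000000000)) (TN.leaf (nat_lit 0x10000000000000000000000000000000000000001000000000000000100000001000000010000000000000001))) (TN.node (TN.leaf (nat_lit 0x100000000)) (TN.leaf (nat_lit 0x100000000000000000000000000000000))))) (TN.node (TN.node (TN.node (TN.leaf (nat_lit 0x1000000000000000000000000000000010000000100000001000000010000000000000000)) (TN.leaf (nat_lit 0x10000000100000001000000010000000100000000000000010000000000000000000000010000000000000000))) (TN.node (TN.leaf (nat_lit 0x10000000000000001000000000000000100000001000000010000000000000001000000000000000000000000))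 (TN.leaf (nat_lit 0x1000000010000000000000000000000000000000000000000000000000000000000000000)))) (TN.node (TN.node (TN.leaf (nat_lit 0x100000000)) (TN.leaf (nat_lit 0x10000000000000000000000000000000000000000))) (TN.leaf (nat_lit 0x10000000000000000000000000000000100000000000000000000000000000000000000010000000000000000)))))
def Ct9 : TN := (TN.node (TN.node (TN.node (TN.node (TN.leaf (nat_lit 0x1000000000000000000000000000000010000000000000000000000010000000000000000)) (TN.leaf (nat_lit 0x100000000000000000000000000000001000000010000000100000000000000000000000000000000))) (TN.node (TN.leaf (nat_lit 0x100000000)) (TN.leaf (nat_lit 0x10000000100000000000000000000000000000000)))) (TN.node (TN.node (TN.leaf (nat_lit 0x1000000000000000000000000000000010000000000000001000000000000000000000000)) (TN.leaf (nat_lit 0x100000000))) (TN.node (TN.leaf (nat_lit 0x10000000000000000000000000000000000000000)) (TN.leaf (nat_lit 0x10000000000000000000000000000000000000000000000000000000000000000))))) (TN.node (TN.node (TN.node (TN.leaf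 (nat_lit 0x100000001)) (TN.leaf (nat_lit 0x10000000100000001000000010000000100000000000000000000000000000000000000010000000100000000))) (TN.node (TN.leaf (nat_lit 0x100000000000000000000000000000000000000010000000000000001000000010000000000000000)) (TN.leaf (nat_lit 1)))) (TN.node (TN.node (TN.leaf (nat_lit 0x10000000000000000000000000000000000000000)) (TN.leaf (nat_lit 0x1000000000000000000000000000000000000000000000000000000000000000000000000))) (TN.leaf (nat_lit 0x100000000)))))
def Ct10 : TN := (TN.node Ct8 Ct9)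
def Ct11 : TN := (TN.node (TN.node (TN.node (TN.node (TN.leaf (nat_lit 0x1000000000000000000000000000000000000000100000001000000000000000000000000)) (TN.leaf (nat_lit 0x10000000000000001000000010000000000000000000000000000000100000000000000000000000000000000))) (TN.node (TN.leaf (nat_lit 0x1000000000000000100000001000000000000000000000001000000000000000000000000)) (TN.leaf (nat_lit 0x1000000010000000000000000)))) (TN.node (TN.node (TN.leaf (nat_lit 0x1000000000000000000000000000000000000000000000000)) (TN.leaf (nat_lit 0x1000000000000000000000001000000000000000100000001000000010000000000000001))) (TN.node (TN.leaf (nat_lit 0x10000000100000001000000010000000000000000000000000000000000000001000000000000000000000000)) (TN.leaf (nat_lit 0x1000000000000000000000000000000000000000000000000))))) (TN.node (TN.node (TN.node (TN.leaf (nat_lit 0x10000000100000000000000000000000000000000000000000000000000000000000000000000000000000000)) (TN.leaf (nat_lit 0x100000000000000010000000100000001000000010000000100000000000000000000000100000001)))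 (TN.node (TN.leaf (nat_lit 0x10000000000000000000000000000000000000000000000000000000100000001000000010000000000000000)) (TN.leaf (nat_lit 0x10000000100000000000000000000000000000000000000000000000000000000000000000000000000000000)))) (TN.node (TN.node (TN.leaf (nat_lit 0x10000000000000001000000000000000100000001000000000000000000000000000000000000000000000000)) (TN.leaf (nat_lit 0x100000000000000000000000000000000000000000000000000000000))) (TN.leaf (nat_lit 0x1000000000000000100000000000000000000000000000000000000010000000000000000)))))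
def Ct12 : TN := (TN.node (TN.node (TN.node (TN.node (TN.leaf (nat_lit 0x100000001000000000000000000000000000000000000000000000000)) (TN.leaf (nat_lit 0x1000000010000000100000000000000000000000100000000000000000000000000000000))) (TN.node (TN.leaf (nat_lit 0x10000000000000000000000010000000000000001000000010000000000000001000000000000000000000000)) (TN.leaf (nat_lit 0x100000001000000000000000000000000000000000000000000000000)))) (TN.node (TN.node (TN.leaf (nat_lit 0x100000000000000000000000000000000000000000000000000000000000000000000000000000000)) (TN.leaf (nat_lit 0x1000000000000000000000000))) (TN.node (TN.leaf (nat_lit 0x10000000000000001000000000000000100000000000000000000000000000000000000000000000000000000)) (TN.leaf (nat_lit 0x100000000000000000000000000000000000000000000000000000000000000000000000000000000))))) (TN.node (TN.node (TN.node (TN.leaf (nat_lit 0x10000000000000000000000010000000100000001000000000000000000000000)) (TN.leaf (nat_lit 0x10000000100000001000000010000000000000000000000010000000000000000000000010000000100000000)))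 (TN.node (TN.leaf (nat_lit 0x10000000000000001000000010000000100000000000000010000000000000001000000000000000000000000)) (TN.leaf (nat_lit 0x10000000000000000)))) (TN.node (TN.node (TN.leaf (nat_lit 0x100000000000000010000000000000000000000000000000000000000000000010000000000000000)) (TN.leaf (nat_lit 0x10000000000000000000000000000000000000000000000000000000000000000000000000000000000000000))) (TN.leaf (nat_lit 0x1000000000000000000000000)))))
def Ct13 : TN := (TN.node Ct11 Ct12)
def Ct14 : TN := (TN.node Ct10 Ct13)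
def Ct : TN := (TN.node Ct7 Ct14)
noncomputable def C (j i : ℕ) : ℕ := TN.get Ct (Nat.add (Nat.mul j (nat_lit 12)) i)
def ix : Fin 6 → ℕ := Fin.val
noncomputable def M (j : ℕ) : Matrix (Fin 6) (Fin 6) K4 := mx ix (kel 2) 2 (C j)
def nv (i : ℕ) : ℕ := Nat.land (Nat.shiftRight (nat_lit 0x1ac681) (Nat.mul (nat_lit 3) i)) (nat_lit 7)
def ws : List (List ℕ × ℕ) := [([nat_lit 0, nat_lit 0, nat_lit 0], (nat_lit 7)), ([nat_lit 2, nat_lit 0, nat_lit 2, nat_lit 0, nat_lit 2, nat_lit 1, nat_lit 2, nat_lit 1], (nat_lit 7)), ([nat_lit 2, nat_lit 3, nat_lit 2, nat_lit 3], (nat_lit 7)), ([nat_lit 3, nat_lit 0, nat_lit 3, nat_lit 0, nat_lit 3, nat_lit 1, nat_lit 3, nat_lit 1], (nat_lit 7)), ([nat_lit 3, nat_lit 0, nat_lit 2, nat_lit 0, nat_lit 3, nat_lit 0, nat_lit 2, nat_lit 0, nat_lit 3, nat_lit 0, nat_lit 2, nat_lit 0], (nat_lit 7)), ([nat_lit 2, nat_lit 4, nat_lit 2, nat_lit 4], (nat_lit 7)), ([nat_lit 3, nat_lit 4, nat_lit 3, nat_lit 4], (nat_lit 7)), ([nat_lit 4, nat_lit 0, nat_lit 4, nat_lit 0, nat_lit 4, nat_lit 1, nat_lit 4, nat_lit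 1], (nat_lit 7)), ([nat_lit 4, nat_lit 0, nat_lit 2, nat_lit 0, nat_lit 3, nat_lit 1, nat_lit 2, nat_lit 1, nat_lit 4, nat_lit 0, nat_lit 2, nat_lit 0, nat_lit 2, nat_lit 3, nat_lit 1, nat_lit 2, nat_lit 1], (nat_lit 7)), ([nat_lit 4, nat_lit 0, nat_lit 2, nat_lit 0, nat_lit 4, nat_lit 0, nat_lit 2, nat_lit 0, nat_lit 4, nat_lit 0, nat_lit 2, nat_lit 0], (nat_lit 7)), ([nat_lit 4, nat_lit 0, nat_lit 3, nat_lit 0, nat_lit 2, nat_lit 1, nat_lit 3, nat_lit 1, nat_lit 4, nat_lit 1, nat_lit 3, nat_lit 1, nat_lit 2, nat_lit 0, nat_lit 3, nat_lit 0], (nat_lit 7)), ([nat_lit 4, nat_lit 0, nat_lit 3, nat_lit 4, nat_lit 0, nat_lit 4, nat_lit 3, nat_lit 1, nat_lit 4, nat_lit 3, nat_lit 1, nat_lit 3], (nat_lit 7)), ([nat_lit 2, nat_lit 5, nat_lit 2, nat_lit 5], (nat_lit 7)), ([nat_lit 3, nat_lit 5, nat_lit 3, nat_lit 5, nat_lit 3, nat_lit 5, nat_lit 3, nat_lit 5], (nat_lit 7)), ([nat_lit 5, nat_lit 3, nat_lit 0, nat_lit 2, nat_lit 0, nat_lit 5, nat_lit 1, nat_lit 2, nat_lit 1, nat_lit 3], (nat_lit 7)), ([nat_lit 5, nat_lit 4, nat_lit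 1, nat_lit 2, nat_lit 1, nat_lit 5, nat_lit 0, nat_lit 2, nat_lit 0, nat_lit 4], (nat_lit 7)), ([nat_lit 5, nat_lit 0, nat_lit 3, nat_lit 5, nat_lit 3, nat_lit 1, nat_lit 5, nat_lit 1, nat_lit 2, nat_lit 0], (nat_lit 7)), ([nat_lit 5, nat_lit 0, nat_lit 5, nat_lit 0, nat_lit 5, nat_lit 1, nat_lit 5, nat_lit 1], (nat_lit 7)), ([nat_lit 5, nat_lit 3, nat_lit 4, nat_lit 0, nat_lit 4, nat_lit 3, nat_lit 5, nat_lit 3, nat_lit 4, nat_lit 1, nat_lit 3, nat_lit 4], (nat_lit 7)), ([nat_lit 5, nat_lit 3, nat_lit 5, nat_lit 4, nat_lit 5, nat_lit 3, nat_lit 5, nat_lit 2, nat_lit 4], (nat_lit 7)), ([nat_lit 5, nat_lit 0, nat_lit 2, nat_lit 3, nat_lit 4, nat_lit 1, nat_lit 3, nat_lit 1, nat_lit 5, nat_lit 0, nat_lit 3, nat_lit 1, nat_lit 4, nat_lit 0, nat_lit 2, nat_lit 4, nat_lit 0, nat_lit 3, nat_lit 4, nat_lit 2, nat_lit 1, nat_lit 4, nat_lit 0], (nat_lit 9)), ([nat_lit 0, nat_lit 6, nat_lit 0, nat_lit 6, nat_lit 0, nat_lit 6, nat_lit 0, nat_lit 6], (nat_lit 8)), ([nat_lit 2, nat_lit 6, nat_lit 2, nat_lit 6], (nat_lit 7)), ([nat_lit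 3, nat_lit 6, nat_lit 3, nat_lit 6, nat_lit 3, nat_lit 6, nat_lit 3, nat_lit 6], (nat_lit 7)), ([nat_lit 4, nat_lit 6, nat_lit 4, nat_lit 6], (nat_lit 7)), ([nat_lit 5, nat_lit 6, nat_lit 5, nat_lit 6], (nat_lit 7)), ([nat_lit 6, nat_lit 3, nat_lit 0, nat_lit 3, nat_lit 6, nat_lit 3, nat_lit 0, nat_lit 4, nat_lit 0, nat_lit 5, nat_lit 1, nat_lit 2, nat_lit 0, nat_lit 4, nat_lit 2, nat_lit 5, nat_lit 1, nat_lit 3, nat_lit 5], (nat_lit 7)), ([nat_lit 6, nat_lit 0, nat_lit 2, nat_lit 1, nat_lit 6, nat_lit 0, nat_lit 2, nat_lit 1, nat_lit 6, nat_lit 0, nat_lit 2, nat_lit 1], (nat_lit 7)), ([nat_lit 6, nat_lit 0, nat_lit 2, nat_lit 4, nat_lit 0, nat_lit 5, nat_lit 3, nat_lit 1, nat_lit 6, nat_lit 0, nat_lit 3, nat_lit 5, nat_lit 1, nat_lit 4, nat_lit 2, nat_lit 1], (nat_lit 7)), ([nat_lit 6, nat_lit 0, nat_lit 5, nat_lit 0, nat_lit 3, nat_lit 1, nat_lit 5, nat_lit 1, nat_lit 6, nat_lit 0, nat_lit 5, nat_lit 0, nat_lit 3, nat_lit 1, nat_lit 5, nat_lit 1], (nat_lit 7)), ([nat_lit 6, nat_lit 0, nat_lit 6, nat_lit 3, nat_lit 0,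 nat_lit 3, nat_lit 6, nat_lit 0, nat_lit 6, nat_lit 2, nat_lit 3, nat_lit 0, nat_lit 2, nat_lit 1, nat_lit 4, nat_lit 1, nat_lit 2, nat_lit 5, nat_lit 4, nat_lit 0, nat_lit 3, nat_lit 2, nat_lit 5], (nat_lit 9)), ([nat_lit 6, nat_lit 1, nat_lit 3, nat_lit 5, nat_lit 1, nat_lit 4, nat_lit 1, nat_lit 2, nat_lit 0, nat_lit 6, nat_lit 1, nat_lit 2, nat_lit 0, nat_lit 4, nat_lit 0, nat_lit 5, nat_lit 3, nat_lit 0], (nat_lit 7)), ([nat_lit 6, nat_lit 1, nat_lit 5, nat_lit 1, nat_lit 3, nat_lit 1, nat_lit 5, nat_lit 2, nat_lit 0, nat_lit 6, nat_lit 3, nat_lit 0, nat_lit 4, nat_lit 1, nat_lit 5, nat_lit 1, nat_lit 4, nat_lit 1, nat_lit 5, nat_lit 2, nat_lit 0, nat_lit 4, nat_lit 1, nat_lit 3], (nat_lit 7)), ([nat_lit 6, nat_lit 3, nat_lit 6, nat_lit 0, nat_lit 2, nat_lit 0, nat_lit 6, nat_lit 3, nat_lit 6, nat_lit 2, nat_lit 5, nat_lit 1, nat_lit 2, nat_lit 1, nat_lit 4, nat_lit 5], (nat_lit 7)), ([nat_lit 6, nat_lit 0, nat_lit 2, nat_lit 3, nat_lit 6, nat_lit 3, nat_lit 0, nat_lit 6, nat_lit 1, nat_lit 2, nat_lit 1, nat_lit 6,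 nat_lit 1, nat_lit 5, nat_lit 1, nat_lit 4, nat_lit 1, nat_lit 5, nat_lit 3, nat_lit 5, nat_lit 3, nat_lit 0, nat_lit 5, nat_lit 3], (nat_lit 7)), ([nat_lit 6, nat_lit 0, nat_lit 2, nat_lit 4, nat_lit 6, nat_lit 0, nat_lit 6, nat_lit 4, nat_lit 2, nat_lit 0, nat_lit 6, nat_lit 1, nat_lit 2, nat_lit 1, nat_lit 3, nat_lit 1, nat_lit 5, nat_lit 3, nat_lit 1, nat_lit 3, nat_lit 5, nat_lit 4, nat_lit 1, nat_lit 3, nat_lit 0], (nat_lit 7)), ([nat_lit 6, nat_lit 0, nat_lit 2, nat_lit 5, nat_lit 6, nat_lit 0, nat_lit 6, nat_lit 5, nat_lit 2, nat_lit 0, nat_lit 6, nat_lit 0, nat_lit 4, nat_lit 0, nat_lit 3, nat_lit 1, nat_lit 2, nat_lit 5, nat_lit 3, nat_lit 5, nat_lit 0, nat_lit 3, nat_lit 1, nat_lit 2, nat_lit 4, nat_lit 5], (nat_lit 8)), ([nat_lit 6, nat_lit 0, nat_lit 3, nat_lit 6, nat_lit 0, nat_lit 4, nat_lit 0, nat_lit 6, nat_lit 3, nat_lit 0, nat_lit 6, nat_lit 2, nat_lit 0, nat_lit 4, nat_lit 0, nat_lit 3, nat_lit 0, nat_lit 4, nat_lit 5, nat_lit 3, nat_lit 0, nat_lit 3, nat_lit 5, nat_lit 0, nat_lit 3], (nat_lit 8)), ([nat_lit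 6, nat_lit 0, nat_lit 4, nat_lit 0, nat_lit 6, nat_lit 3, nat_lit 6, nat_lit 0, nat_lit 4, nat_lit 2, nat_lit 1, nat_lit 6, nat_lit 0, nat_lit 3, nat_lit 1, nat_lit 2, nat_lit 1, nat_lit 4, nat_lit 0, nat_lit 2, nat_lit 3, nat_lit 5, nat_lit 1, nat_lit 5, nat_lit 4, nat_lit 0, nat_lit 3, nat_lit 1, nat_lit 5], (nat_lit 7)), ([nat_lit 5, nat_lit 3, nat_lit 6, nat_lit 3, nat_lit 5, nat_lit 3, nat_lit 6, nat_lit 3], (nat_lit 7)), ([nat_lit 6, nat_lit 0, nat_lit 5, nat_lit 6, nat_lit 3, nat_lit 0, nat_lit 3, nat_lit 6, nat_lit 5, nat_lit 4, nat_lit 1, nat_lit 6, nat_lit 4, nat_lit 5, nat_lit 3, nat_lit 1, nat_lit 3, nat_lit 5], (nat_lit 7)), ([nat_lit 6, nat_lit 0, nat_lit 6, nat_lit 1, nat_lit 2, nat_lit 4, nat_lit 0, nat_lit 6, nat_lit 4, nat_lit 2, nat_lit 1, nat_lit 6, nat_lit 3, nat_lit 1, nat_lit 4, nat_lit 1, nat_lit 3, nat_lit 5, nat_lit 0, nat_lit 4, nat_lit 5, nat_lit 1, nat_lit 4, nat_lit 1, nat_lit 5, nat_lit 2], (nat_lit 7)), ([nat_lit 6, nat_lit 0, nat_lit 6, nat_lit 1, nat_lit 2, nat_lit 5, nat_lit 0, nat_lit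 6, nat_lit 5, nat_lit 2, nat_lit 1, nat_lit 6, nat_lit 2, nat_lit 4, nat_lit 1, nat_lit 5, nat_lit 1, nat_lit 3, nat_lit 2, nat_lit 5, nat_lit 0, nat_lit 5, nat_lit 0, nat_lit 4], (nat_lit 7)), ([nat_lit 6, nat_lit 0, nat_lit 6, nat_lit 3, nat_lit 6, nat_lit 1, nat_lit 4, nat_lit 5, nat_lit 0, nat_lit 6, nat_lit 1, nat_lit 6, nat_lit 2, nat_lit 0, nat_lit 3, nat_lit 4, nat_lit 0, nat_lit 2, nat_lit 5, nat_lit 3, nat_lit 5, nat_lit 1, nat_lit 5, nat_lit 4, nat_lit 1, nat_lit 3, nat_lit 0], (nat_lit 8)), ([nat_lit 0, nat_lit 1], (nat_lit 7)), ([nat_lit 1, nat_lit 0], (nat_lit 7)), ([nat_lit 2, nat_lit 2], (nat_lit 7)), ([nat_lit 3, nat_lit 3], (nat_lit 7)), ([nat_lit 4, nat_lit 4], (nat_lit 7)), ([nat_lit 5, nat_lit 5], (nat_lit 7)), ([nat_lit 6, nat_lit 6], (nat_lit 7))]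
theorem lm : Lm ix (kel 2) 2 2 6 M C 10 := ⟨by decide +kernel, by decide +kernel, by decide +kernel, by decide +kernel⟩
theorem hw : allE (fun w => Nat.add (Nat.add (lettE 7 w.1) (Nat.add (ltE w.2 10) (Nat.sub 7 w.2))) (eqL 2 2 6 10 C w.1 [w.2])) ws = 0 := by decide +kernel
theorem pq : Pr al inv rels 7 := ⟨simple, ctr, top, ub, iv, rl, by decide +kernel⟩
theorem iso {F : Type*} [Field F] [Fintype F] (hF : Fintype.card F = 4) : Nonempty (P ≃* PSU 6 F 2) := by
  obtain ⟨f⟩ := exK (K := K4) rfl hF
  refine iso_card (lm.emb f pq (lm.let f (n := nv) (by decide +kernel) fun j hj => mem_U (by decide) (by decide +kernel) ((by decide +kernel : ∀ j < 7, (M j).transpose * (M j).map (· ^ 2) = 1) j hj)) 0 (by decide +kernel) hw 0 2 1 5 (by decide +kernel) suU_inj le_su) card ?_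
  have := S0280.result (q := 2) hF 6 (by decide)
  norm_num [Fin.prod_univ_succ, Finset.prod_range_succ, Nat.even_iff] at this
  omega

end Cfsg.Agent.Ct.U62
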